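import Mathlib
import Groth.Prelude.Def_KFlatSite
import Groth.Agent.Lib.Helper5.LTen.Assoc3
import Groth.Agent.Lib.Helper5.Lin.AssocNat23

/-!
# The associator of the tensor product of complexes of modules on a ringed site: naturality in
the second and third variables (helper5)
-/
set_option autoImplicit false
set_option linter.unusedSectionVars false
set_option linter.unusedVariables false
set_option linter.style.haveILetI false
universe u
open CategoryTheory CategoryTheory.Limits MonoidalCategory Opposite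

namespace Groth.Agent.Lib.Helper5.TenAssoc

variable {C : Type u} [SmallCategory C] {J : GrothendieckTopology C} (O : Sheaf J CommRingCat.{u})

variable (K₁ K₂ K₃ : CochainComplex (ModSite.Mod O) ℤ)

lemma assocCx_naturality₂ {K₂ L₂ : CochainComplex (ModSite.Mod O) ℤ} (f : K₂ ⟶ L₂) :
    ((ModSite.tensorCx O).map (((ModSite.tensorCx O).obj K₁).map f)).app K₃ ≫
        (assocCx O K₁ L₂ K₃).hom =
      (assocCx O K₁ K₂ K₃).hom ≫
        ((ModSite.tensorCx O).obj K₁).map (((ModSite.tensorCx O).map f).app K₃) :=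
  Groth.Agent.Lib.Helper5.AssocNat23.mapBifunctorAssociator_naturality₂ (assoc O) K₁ K₂ L₂ f K₃
    (ComplexShape.up ℤ) (ComplexShape.up ℤ) (ComplexShape.up ℤ)

lemma assocCx_naturality₃ {K₃ L₃ : CochainComplex (ModSite.Mod O) ℤ} (f : K₃ ⟶ L₃) :
    ((ModSite.tensorCx O).obj (((ModSite.tensorCx O).obj K₁).obj K₂)).map f ≫
        (assocCx O K₁ K₂ L₃).hom =
      (assocCx O K₁ K₂ K₃).hom ≫
        ((ModSite.tensorCx O).obj K₁).map (((ModSite.tensorCx O).obj K₂).map f) :=
  Groth.Agent.Lib.Helper5.AssocNat23.mapBifunctorAssociator_naturality₃ (assoc O) K₁ K₂ K₃ L₃ f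
    (ComplexShape.up ℤ) (ComplexShape.up ℤ) (ComplexShape.up ℤ)

/-- the associator as an isomorphism of functors in the middle variable:
`(K₁ ⊗ N) ⊗ K₃ ≅ K₁ ⊗ (N ⊗ K₃)` -/
noncomputable def assocNat₂ :
    (ModSite.tensorCx O).obj K₁ ⋙ (ModSite.tensorCx O).flip.obj K₃ ≅
      (ModSite.tensorCx O).flip.obj K₃ ⋙ (ModSite.tensorCx O).obj K₁ :=
  NatIso.ofComponents (fun N => assocCx O K₁ N K₃)
    (fun {N N'} f => assocCx_naturality₂ O K₁ K₃ f)

end Groth.Agent.Lib.Helper5.TenAssoc
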