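import Mathlib
import Groth.Agent.Lib.Helper5.Dual.TotAdj5
import Groth.Agent.Lib.Helper5.StalkTen.TotFun

/-!
# Linearity of the counit of the total adjunction `- ⊗ E ⊣ - ⊗ F` with respect to left tensoring
(helper5)
-/
set_option autoImplicit false
set_option linter.unusedSectionVars false
set_option linter.unusedVariables false
universe u
open CategoryTheory CategoryTheory.Limits HomologicalComplex

namespace Groth.Agent.Lib.Helper5.Dual

variable {A : Type*} [Category A] [Preadditive A] [HasZeroObject A]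
  (T : A ⥤ A ⥤ A) [T.Additive] [∀ X : A, (T.obj X).Additive] [∀ X : A, (T.flip.obj X).Additive]
  [∀ (K₁ K₂ : CochainComplex A ℤ), CochainComplex.HasMapBifunctor K₁ K₂ T]
  [∀ (n : ℤ) (X : A), PreservesColimitsOfShape (Discrete ((ComplexShape.π (ComplexShape.up ℤ)
    (ComplexShape.up ℤ) (ComplexShape.up ℤ)) ⁻¹' {n})) (T.flip.obj X)]
  [∀ K₁ K₂ K₃ : CochainComplex A ℤ, HasGoodTrifunctor₁₂Obj T T K₁ K₂ K₃
    (ComplexShape.up ℤ) (ComplexShape.up ℤ)]
  [∀ K₁ K₂ K₃ : CochainComplex A ℤ, HasGoodTrifunctor₂₃Obj T T K₁ K₂ K₃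
    (ComplexShape.up ℤ) (ComplexShape.up ℤ) (ComplexShape.up ℤ)]
  (assoc : bifunctorComp₁₂ T T ≅ bifunctorComp₂₃ T T)

/-- the components of the associator, with normalised types -/
def αh (B C D : A) : (T.obj ((T.obj B).obj C)).obj D ⟶ (T.obj B).obj ((T.obj C).obj D) :=
  ((assoc.hom.app B).app C).app D

lemma αh_nat₂ (B : A) {C C' : A} (g : C ⟶ C') (D : A) :
    (T.map ((T.obj B).map g)).app D ≫ αh T assoc B C' D =
      αh T assoc B C D ≫ (T.obj B).map ((T.map g).app D) :=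
  NatTrans.naturality_app (assoc.hom.app B) D g

/-- the associator of total complexes -/
noncomputable abbrev totAssoc (K₁ K₂ K₃ : CochainComplex A ℤ) :
    tot T (tot T K₁ K₂) K₃ ≅ tot T K₁ (tot T K₂ K₃) :=
  mapBifunctorAssociator assoc K₁ K₂ K₃ (ComplexShape.up ℤ) (ComplexShape.up ℤ)
    (ComplexShape.up ℤ)

lemma ι_totAssoc_hom (K₁ K₂ K₃ : CochainComplex A ℤ) (i₁ i₂ i₃ s u t : ℤ) (hs : i₁ + i₂ = s)
    (hu : i₂ + i₃ = u) (ht : s + i₃ = t) (ht' : i₁ + u = t) :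
    (T.map (ιt T K₁ K₂ i₁ i₂ s hs)).app (K₃.X i₃) ≫ ιt T (tot T K₁ K₂) K₃ s i₃ t ht ≫
      (totAssoc T assoc K₁ K₂ K₃).hom.f t =
    αh T assoc (K₁.X i₁) (K₂.X i₂) (K₃.X i₃) ≫
      (T.obj (K₁.X i₁)).map (ιt T K₂ K₃ i₂ i₃ u hu) ≫ ιt T K₁ (tot T K₂ K₃) i₁ u t ht' := by
  have h1 := mapBifunctor₁₂.ι_eq T T K₁ K₂ K₃ (ComplexShape.up ℤ) (ComplexShape.up ℤ)
    i₁ i₂ i₃ s t hs ht
  have h2 := mapBifunctor₂₃.ι_eq T T K₁ K₂ K₃ (ComplexShape.up ℤ) (ComplexShape.up ℤ)
    (ComplexShape.up ℤ) i₁ i₂ i₃ u t hu ht'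
  have h3 := ι_mapBifunctorAssociatorX_hom assoc K₁ K₂ K₃ (ComplexShape.up ℤ) (ComplexShape.up ℤ)
    (ComplexShape.up ℤ) i₁ i₂ i₃ t (by rw [← ht, ← hs]; rfl)
  rw [h1, h2, Category.assoc] at h3
  exact h3

/-- morphisms out of a four-fold total complex are determined by their components -/
lemma hom_ext₄ (K₁ K₂ K₃ K₄ : CochainComplex A ℤ) {n : ℤ} {Y : A}
    {f g : (tot T (tot T (tot T K₁ K₂) K₃) K₄).X n ⟶ Y}
    (h : ∀ (i₁ i₂ i₃ i₄ s t : ℤ) (hs : i₁ + i₂ = s) (ht : s + i₃ = t) (hn : t + i₄ = n),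
      (T.map ((T.map (ιt T K₁ K₂ i₁ i₂ s hs)).app (K₃.X i₃))).app (K₄.X i₄) ≫
        (T.map (ιt T (tot T K₁ K₂) K₃ s i₃ t ht)).app (K₄.X i₄) ≫
        ιt T (tot T (tot T K₁ K₂) K₃) K₄ t i₄ n hn ≫ f =
      (T.map ((T.map (ιt T K₁ K₂ i₁ i₂ s hs)).app (K₃.X i₃))).app (K₄.X i₄) ≫
        (T.map (ιt T (tot T K₁ K₂) K₃ s i₃ t ht)).app (K₄.X i₄) ≫
        ιt T (tot T (tot T K₁ K₂) K₃) K₄ t i₄ n hn ≫ g) : f = g := by
  apply mapBifunctor.hom_ext
  intro t i₄ hn
  have hn' : t + i₄ = n := hn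
  apply Groth.Agent.Lib.Helper5.TotFun.hom_ext_G T (T.flip.obj (K₄.X i₄)) (tot T K₁ K₂) K₃
  intro s i₃ ht
  apply Groth.Agent.Lib.Helper5.TotFun.hom_ext_G T
    (T.flip.obj (K₃.X i₃) ⋙ T.flip.obj (K₄.X i₄)) K₁ K₂
  intro i₁ i₂ hs
  exact h i₁ i₂ i₃ i₄ s t hs ht hn'

variable (E F : CochainComplex A ℤ)
  (adj : ∀ q : ℤ, T.flip.obj (E.X q) ⊣ T.flip.obj (F.X (-q)))
  (hadj : ∀ (q : ℤ) (B C : A) (g : (T.obj B).obj (E.X (q + 1)) ⟶ C),
    (adj q).homEquiv B C ((T.obj B).map (E.d q (q + 1)) ≫ g) =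
      (adj (q + 1)).homEquiv B C g ≫ (T.obj C).map (q.negOnePow • F.d (-(q + 1)) (-q)))
  (hlin : ∀ (q : ℤ) (B C : A),
    (T.map (αh T assoc B C (F.X (-q)))).app (E.X q) ≫
      αh T assoc B ((T.obj C).obj (F.X (-q))) (E.X q) ≫
      (T.obj B).map ((adj q).counit.app C) = (adj q).counit.app ((T.obj B).obj C))

include hlin in
/-- **the counit of the total adjunction is linear for left tensoring** -/
theorem εhom_linear (K M : CochainComplex A ℤ) :
    totMap T (totAssoc T assoc K M F).hom E ≫ (totAssoc T assoc K (tot T M F) E).hom ≫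
      mapBifunctorMap (𝟙 K) (εhom T E F adj hadj M) T (ComplexShape.up ℤ) =
    εhom T E F adj hadj (tot T K M) := by
  ext n : 1
  apply hom_ext₄ T K M F E
  intro a m f e s t hs ht hn
  obtain ⟨u, hu⟩ : ∃ u, m + f = u := ⟨_, rfl⟩
  obtain ⟨v, hv⟩ : ∃ v, u + e = v := ⟨_, rfl⟩
  have hat : a + u = t := by omega
  have hav : a + v = n := by omega
  have hvu : v + -e = u := by omega
  have hnt : n + -e = t := by omega
  -- the pieces of the left hand side
  have L1 : ιt T (tot T (tot T K M) F) E t e n hn ≫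
      (totMap T (totAssoc T assoc K M F).hom E).f n =
      (T.map ((totAssoc T assoc K M F).hom.f t)).app (E.X e) ≫
        ιt T (tot T K (tot T M F)) E t e n hn := ιt_totMap T _ E t e n hn
  have L2 := ι_totAssoc_hom T assoc K M F a m f s u t hs hu ht hat
  have L3 := ι_totAssoc_hom T assoc K (tot T M F) E a u e t v n hat hv hn hav
  have L4 : ιt T K (tot T (tot T M F) E) a v n hav ≫
      (mapBifunctorMap (𝟙 K) (εhom T E F adj hadj M) T (ComplexShape.up ℤ)).f n =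
      (T.obj (K.X a)).map (εf T E F adj M v) ≫ ιt T K M a v n hav := by
    rw [ι_mapBifunctorMap]
    simp [εhom]
  have L5 := ι_εf T E F adj M u e v hv
  have e1 : (T.map ((T.map (ιt T K M a m s hs)).app (F.X f))).app (E.X e) ≫
      (T.map (ιt T (tot T K M) F s f t ht)).app (E.X e) ≫
      (T.map ((totAssoc T assoc K M F).hom.f t)).app (E.X e) =
      (T.map (αh T assoc (K.X a) (M.X m) (F.X f))).app (E.X e) ≫
        (T.map ((T.obj (K.X a)).map (ιt T M F m f u hu))).app (E.X e) ≫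
        (T.map (ιt T K (tot T M F) a u t hat)).app (E.X e) := by
    rw [← NatTrans.comp_app, ← NatTrans.comp_app, ← Functor.map_comp, ← Functor.map_comp, L2,
      Functor.map_comp, Functor.map_comp, NatTrans.comp_app, NatTrans.comp_app]
  have e5 : (T.map ((T.obj (K.X a)).map (ιt T M F m f u hu))).app (E.X e) ≫
      αh T assoc (K.X a) ((tot T M F).X u) (E.X e) =
      αh T assoc (K.X a) ((T.obj (M.X m)).obj (F.X f)) (E.X e) ≫
        (T.obj (K.X a)).map ((T.map (ιt T M F m f u hu)).app (E.X e)) :=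
    αh_nat₂ T assoc (K.X a) (ιt T M F m f u hu) (E.X e)
  have hL : (T.map ((T.map (ιt T K M a m s hs)).app (F.X f))).app (E.X e) ≫
      (T.map (ιt T (tot T K M) F s f t ht)).app (E.X e) ≫
      ιt T (tot T (tot T K M) F) E t e n hn ≫
      (totMap T (totAssoc T assoc K M F).hom E).f n ≫
      (totAssoc T assoc K (tot T M F) E).hom.f n ≫
      (mapBifunctorMap (𝟙 K) (εhom T E F adj hadj M) T (ComplexShape.up ℤ)).f n =
      (T.map (αh T assoc (K.X a) (M.X m) (F.X f))).app (E.X e) ≫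
        αh T assoc (K.X a) ((T.obj (M.X m)).obj (F.X f)) (E.X e) ≫
        (T.obj (K.X a)).map ((T.map (ιt T M F m f u hu ≫ πt T M F v (-e) u hvu)).app (E.X e)) ≫
        (T.obj (K.X a)).map ((adj e).counit.app (M.X v)) ≫ ιt T K M a v n hav := by
    rw [reassoc_of% L1, reassoc_of% e1, reassoc_of% L3, L4, reassoc_of% e5]
    congr 2
    have e6 : (T.obj (K.X a)).map ((T.map (ιt T M F m f u hu)).app (E.X e)) ≫
        (T.obj (K.X a)).map (ιt T (tot T M F) E u e v hv) ≫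
        (T.obj (K.X a)).map (εf T E F adj M v) =
        (T.obj (K.X a)).map ((T.map (ιt T M F m f u hu ≫ πt T M F v (-e) u hvu)).app (E.X e)) ≫
          (T.obj (K.X a)).map ((adj e).counit.app (M.X v)) := by
      rw [← Functor.map_comp, ← Functor.map_comp, ← Functor.map_comp, L5]
      congr 1
      rw [Functor.map_comp, NatTrans.comp_app, Category.assoc]
    rw [reassoc_of% e6]
  have hR : (T.map ((T.map (ιt T K M a m s hs)).app (F.X f))).app (E.X e) ≫
      (T.map (ιt T (tot T K M) F s f t ht)).app (E.X e) ≫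
      ιt T (tot T (tot T K M) F) E t e n hn ≫ εf T E F adj (tot T K M) n =
      (T.map ((T.map (ιt T K M a m s hs)).app (F.X f))).app (E.X e) ≫
        (T.map (ιt T (tot T K M) F s f t ht ≫ πt T (tot T K M) F n (-e) t hnt)).app (E.X e) ≫
        (adj e).counit.app ((tot T K M).X n) := by
    rw [ι_εf T E F adj (tot T K M) t e n hn, Functor.map_comp, NatTrans.comp_app, Category.assoc]
  show _ ≫ _ ≫ _ ≫ (_ ≫ _ ≫ _) = _ ≫ _ ≫ _ ≫ εf T E F adj (tot T K M) n
  rw [hL, hR]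
  by_cases hf : f = -e
  · subst hf
    obtain rfl : v = m := by omega
    obtain rfl : s = n := by omega
    rw [ιt_πt_self, ιt_πt_self]
    simp only [CategoryTheory.Functor.map_id, NatTrans.id_app, Category.id_comp]
    rw [reassoc_of% (hlin e (K.X a) (M.X v))]
    exact ((adj e).counit.naturality (ιt T K M a v s hav)).symm
  · rw [ιt_πt_ne T M F v (-e) m f u hvu hu (by omega),
      ιt_πt_ne T (tot T K M) F n (-e) s f t hnt ht (by omega)]
    simp

end Groth.Agent.Lib.Helper5.Dual
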