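import Mathlib
import Groth.Agent.Lib.Helper5.Dual.DualCx
import Groth.Agent.Lib.Helper5.Lin.CounitLin

/-!
# Linearity of the counit of `T(-, P) ⊣ T(-, Q)` and of `- ⊗ E ⊣ - ⊗ E^∨` for left tensoring
(helper5)
-/
set_option autoImplicit false
set_option linter.unusedSectionVars false
set_option linter.unusedVariables false
universe u
open CategoryTheory CategoryTheory.Limits HomologicalComplex

namespace Groth.Agent.Lib.Helper5.Dual

section module

variable {A : Type*} [Category A] [Preadditive A]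
  (T : A ⥤ A ⥤ A) [T.Additive] [∀ X : A, (T.obj X).Additive] {U : A} (ρ : T.flip.obj U ≅ 𝟭 A)
  (assoc : bifunctorComp₁₂ T T ≅ bifunctorComp₂₃ T T)

lemma αh_nat₃ (B C : A) {D D' : A} (h : D ⟶ D') :
    (T.obj ((T.obj B).obj C)).map h ≫ αh T assoc B C D' =
      αh T assoc B C D ≫ (T.obj B).map ((T.obj C).map h) :=
  ((assoc.hom.app B).app C).naturality h

variable {P Q : A} {n : ℕ}

lemma decompAdj_counit (d : Decomp U P n) (e : Decomp U Q n) (C : A) :
    (decompAdj T ρ d e).counit.app C =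
      ∑ i, ((T.obj ((T.obj C).obj Q)).map (d.π i) ≫ ρh T ρ ((T.obj C).obj Q)) ≫
        (T.obj C).map (e.π i) ≫ ρh T ρ C := by
  have h1 : (decompAdj T ρ d e).counit.app C =
      ((decompAdj T ρ d e).homEquiv _ C).symm (𝟙 _) := by
    rw [Adjunction.homEquiv_counit]
    simp
  have h2 : ((decompAdj T ρ d e).homEquiv ((T.obj C).obj Q) C).symm (𝟙 _) =
      dInv T ρ d e (𝟙 _) := by
    apply ((decompAdj T ρ d e).homEquiv _ C).injective
    rw [Equiv.apply_symm_apply, decompAdj_homEquiv, dTo_dInv]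
  refine h1.trans (h2.trans ?_)
  unfold dInv
  refine Finset.sum_congr rfl (fun i _ => ?_)
  rw [Category.id_comp]
  rfl

/-- **linearity of the counit of `decompAdj`**, given the coherence between the associator and
the right unitor -/
theorem decompAdj_linear (hρ : ∀ B C : A, αh T assoc B C U ≫ (T.obj B).map (ρh T ρ C) =
      ρh T ρ ((T.obj B).obj C))
    (d : Decomp U P n) (e : Decomp U Q n) (B C : A) :
    (T.map (αh T assoc B C Q)).app P ≫ αh T assoc B ((T.obj C).obj Q) P ≫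
      (T.obj B).map ((decompAdj T ρ d e).counit.app C) =
      (decompAdj T ρ d e).counit.app ((T.obj B).obj C) := by
  rw [decompAdj_counit, decompAdj_counit, Functor.map_sum, Preadditive.comp_sum,
    Preadditive.comp_sum]
  refine Finset.sum_congr rfl (fun i _ => ?_)
  simp only [Functor.map_comp, Category.assoc]
  have s1 := αh_nat₃ T assoc B ((T.obj C).obj Q) (d.π i)
  have s2 := hρ B ((T.obj C).obj Q)
  have s3 : (T.map (αh T assoc B C Q)).app P ≫ (T.obj ((T.obj B).obj ((T.obj C).obj Q))).map (d.π i) =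
      (T.obj ((T.obj ((T.obj B).obj C)).obj Q)).map (d.π i) ≫ (T.map (αh T assoc B C Q)).app U :=
    ((T.map (αh T assoc B C Q)).naturality (d.π i)).symm
  have s4 := ρh_nat T ρ (αh T assoc B C Q)
  have s5 := αh_nat₃ T assoc B C (e.π i)
  have s6 := hρ B C
  rw [← reassoc_of% s1, reassoc_of% s2, reassoc_of% s3, reassoc_of% s4, ← reassoc_of% s5, s6]

end module

section complex

variable {A : Type*} [Category A] [Preadditive A] [HasZeroObject A]
  (T : A ⥤ A ⥤ A) [T.Additive] [∀ X : A, (T.obj X).Additive] [∀ X : A, (T.flip.obj X).Additive]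
  [∀ (K₁ K₂ : CochainComplex A ℤ), CochainComplex.HasMapBifunctor K₁ K₂ T]
  [∀ (n : ℤ) (X : A), PreservesColimitsOfShape (Discrete ((ComplexShape.π (ComplexShape.up ℤ)
    (ComplexShape.up ℤ) (ComplexShape.up ℤ)) ⁻¹' {n})) (T.flip.obj X)]
  [∀ K₁ K₂ K₃ : CochainComplex A ℤ, HasGoodTrifunctor₁₂Obj T T K₁ K₂ K₃
    (ComplexShape.up ℤ) (ComplexShape.up ℤ)]
  [∀ K₁ K₂ K₃ : CochainComplex A ℤ, HasGoodTrifunctor₂₃Obj T T K₁ K₂ K₃
    (ComplexShape.up ℤ) (ComplexShape.up ℤ) (ComplexShape.up ℤ)]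
  (assoc : bifunctorComp₁₂ T T ≅ bifunctorComp₂₃ T T)
  {U : A} (ρ : T.flip.obj U ≅ 𝟭 A) (hcomm : ∀ f g : U ⟶ U, f ≫ g = g ≫ f)
  (hρ : ∀ B C : A, αh T assoc B C U ≫ (T.obj B).map (ρh T ρ C) = ρh T ρ ((T.obj B).obj C))
  (E : CochainComplex A ℤ) (n : ℤ → ℕ) (dec : ∀ q : ℤ, Decomp U (E.X q) (n q))
  (a : ℤ) (k : ℕ) (hE : ∀ q : ℤ, (q < a ∨ a + k < q) → IsZero (E.X q))

include hρ in
/-- **the counit of `- ⊗ E ⊣ - ⊗ E^∨` is linear for left tensoring** -/
theorem dualAdj_counit_linear (K M : CochainComplex A ℤ) :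
    totMap T (totAssoc T assoc K M (dualCx hcomm E n dec)).hom E ≫
      (totAssoc T assoc K (tot T M (dualCx hcomm E n dec)) E).hom ≫
      mapBifunctorMap (𝟙 K) ((dualAdj T ρ hcomm E n dec a k hE).counit.app M) T
        (ComplexShape.up ℤ) =
    (dualAdj T ρ hcomm E n dec a k hE).counit.app (tot T K M) :=
  εhom_linear T assoc E (dualCx hcomm E n dec) (termAdj T ρ hcomm E n dec)
    (termAdj_compat T ρ hcomm E n dec)
    (fun q B C => decompAdj_linear T ρ assoc hρ (dec q) (edec hcomm E n dec q) B C) K M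

end complex

end Groth.Agent.Lib.Helper5.Dual
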