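import Mathlib

/-!
# Squares over localization functors and lifting of natural transformations (helper5)
-/
set_option autoImplicit false
set_option linter.unusedSectionVars false
set_option linter.unusedVariables false
set_option linter.style.haveILetI false
open CategoryTheory

namespace Groth.Agent.Lib.Helper5.Lin

section

variable {C C' D D' E E' : Type*} [Category C] [Category C'] [Category D] [Category D']
  [Category E] [Category E']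
  (LC : C ⥤ C') (W : MorphismProperty C) [LC.IsLocalization W] (LD : D ⥤ D') (LE : E ⥤ E')

/-- the lift of a natural transformation between the underlying functors of two squares -/
noncomputable def liftNT {F₀ G₀ : C ⥤ D} {F G : C' ⥤ D'} (e : LC ⋙ F ≅ F₀ ⋙ LD)
    (e' : LC ⋙ G ≅ G₀ ⋙ LD) (τ : F₀ ⟶ G₀) : F ⟶ G :=
  letI : Localization.Lifting LC W (F₀ ⋙ LD) F := ⟨e⟩
  letI : Localization.Lifting LC W (G₀ ⋙ LD) G := ⟨e'⟩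
  Localization.liftNatTrans LC W (F₀ ⋙ LD) (G₀ ⋙ LD) F G (Functor.whiskerRight τ LD)

lemma liftNT_app {F₀ G₀ : C ⥤ D} {F G : C' ⥤ D'} (e : LC ⋙ F ≅ F₀ ⋙ LD)
    (e' : LC ⋙ G ≅ G₀ ⋙ LD) (τ : F₀ ⟶ G₀) (N : C) :
    (liftNT LC W LD e e' τ).app (LC.obj N) =
      e.hom.app N ≫ LD.map (τ.app N) ≫ e'.inv.app N := by
  letI : Localization.Lifting LC W (F₀ ⋙ LD) F := ⟨e⟩
  letI : Localization.Lifting LC W (G₀ ⋙ LD) G := ⟨e'⟩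
  exact Localization.liftNatTrans_app LC W (F₀ ⋙ LD) (G₀ ⋙ LD) F G
    (Functor.whiskerRight τ LD) N

/-- the lift of a natural isomorphism -/
noncomputable def liftNI {F₀ G₀ : C ⥤ D} {F G : C' ⥤ D'} (e : LC ⋙ F ≅ F₀ ⋙ LD)
    (e' : LC ⋙ G ≅ G₀ ⋙ LD) (τ : F₀ ≅ G₀) : F ≅ G where
  hom := liftNT LC W LD e e' τ.hom
  inv := liftNT LC W LD e' e τ.inv
  hom_inv_id := by
    apply Localization.natTrans_ext LC W
    intro N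
    rw [NatTrans.comp_app, liftNT_app, liftNT_app]
    simp only [Category.assoc, Iso.inv_hom_id_app_assoc, NatTrans.id_app]
    rw [← LD.map_comp_assoc, Iso.hom_inv_id_app, LD.map_id, Category.id_comp,
      Iso.hom_inv_id_app]
    rfl
  inv_hom_id := by
    apply Localization.natTrans_ext LC W
    intro N
    rw [NatTrans.comp_app, liftNT_app, liftNT_app]
    simp only [Category.assoc, Iso.inv_hom_id_app_assoc, NatTrans.id_app]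
    rw [← LD.map_comp_assoc, Iso.inv_hom_id_app, LD.map_id, Category.id_comp,
      Iso.hom_inv_id_app]
    rfl

lemma liftNI_hom_app {F₀ G₀ : C ⥤ D} {F G : C' ⥤ D'} (e : LC ⋙ F ≅ F₀ ⋙ LD)
    (e' : LC ⋙ G ≅ G₀ ⋙ LD) (τ : F₀ ≅ G₀) (N : C) :
    (liftNI LC W LD e e' τ).hom.app (LC.obj N) =
      e.hom.app N ≫ LD.map (τ.hom.app N) ≫ e'.inv.app N :=
  liftNT_app LC W LD e e' τ.hom N

/-- horizontal composition of squares -/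
noncomputable def sqComp {F₀ : C ⥤ D} {F : C' ⥤ D'} (e : LC ⋙ F ≅ F₀ ⋙ LD)
    {G₀ : D ⥤ E} {G : D' ⥤ E'} (e' : LD ⋙ G ≅ G₀ ⋙ LE) :
    LC ⋙ (F ⋙ G) ≅ (F₀ ⋙ G₀) ⋙ LE :=
  (Functor.associator _ _ _).symm ≪≫ Functor.isoWhiskerRight e G ≪≫ Functor.associator _ _ _ ≪≫
    Functor.isoWhiskerLeft F₀ e' ≪≫ (Functor.associator _ _ _).symm

lemma sqComp_hom_app {F₀ : C ⥤ D} {F : C' ⥤ D'} (e : LC ⋙ F ≅ F₀ ⋙ LD)
    {G₀ : D ⥤ E} {G : D' ⥤ E'} (e' : LD ⋙ G ≅ G₀ ⋙ LE) (N : C) :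
    (sqComp LC LD LE e e').hom.app N = G.map (e.hom.app N) ≫ e'.hom.app (F₀.obj N) := by
  simp [sqComp]

lemma sqComp_inv_app {F₀ : C ⥤ D} {F : C' ⥤ D'} (e : LC ⋙ F ≅ F₀ ⋙ LD)
    {G₀ : D ⥤ E} {G : D' ⥤ E'} (e' : LD ⋙ G ≅ G₀ ⋙ LE) (N : C) :
    (sqComp LC LD LE e e').inv.app N = e'.inv.app (F₀.obj N) ≫ G.map (e.inv.app N) := by
  simp [sqComp]

end

section IsLift

variable {B B' C C' D D' E E' : Type*} [Category B] [Category B'] [Category C] [Category C']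
  [Category D] [Category D'] [Category E] [Category E']
  (LB : B ⥤ B') (LC : C ⥤ C') (LD : D ⥤ D') (LE : E ⥤ E')

/-- `τ : F ⟶ G` lifts the family `τ₀` with respect to pointwise squares `e`, `e'` -/
def IsLift {F₀ G₀ : C → D} {F G : C' ⥤ D'} (e : ∀ N, F.obj (LC.obj N) ≅ LD.obj (F₀ N))
    (e' : ∀ N, G.obj (LC.obj N) ≅ LD.obj (G₀ N)) (τ : F ⟶ G) (τ₀ : ∀ N, F₀ N ⟶ G₀ N) : Prop :=
  ∀ N, τ.app (LC.obj N) ≫ (e' N).hom = (e N).hom ≫ LD.map (τ₀ N)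

variable {LC LD}

lemma IsLift.comp {F₀ G₀ H₀ : C → D} {F G H : C' ⥤ D'}
    {e : ∀ N, F.obj (LC.obj N) ≅ LD.obj (F₀ N)} {e' : ∀ N, G.obj (LC.obj N) ≅ LD.obj (G₀ N)}
    {e'' : ∀ N, H.obj (LC.obj N) ≅ LD.obj (H₀ N)} {τ : F ⟶ G} {τ' : G ⟶ H}
    {τ₀ : ∀ N, F₀ N ⟶ G₀ N} {τ₀' : ∀ N, G₀ N ⟶ H₀ N}
    (h : IsLift LC LD e e' τ τ₀) (h' : IsLift LC LD e' e'' τ' τ₀') :
    IsLift LC LD e e'' (τ ≫ τ') (fun N => τ₀ N ≫ τ₀' N) := by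
  intro N
  rw [NatTrans.comp_app, Category.assoc, h' N, ← Category.assoc, h N, Category.assoc,
    LD.map_comp]

lemma IsLift.ext (W : MorphismProperty C) [LC.IsLocalization W] {F₀ G₀ : C → D}
    {F G : C' ⥤ D'}
    {e : ∀ N, F.obj (LC.obj N) ≅ LD.obj (F₀ N)} {e' : ∀ N, G.obj (LC.obj N) ≅ LD.obj (G₀ N)}
    {τ τ' : F ⟶ G} {τ₀ τ₀' : ∀ N, F₀ N ⟶ G₀ N}
    (h : IsLift LC LD e e' τ τ₀) (h' : IsLift LC LD e e' τ' τ₀') (h₀ : ∀ N, τ₀ N = τ₀' N) :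
    τ = τ' := by
  apply Localization.natTrans_ext LC W
  intro N
  rw [← cancel_mono (e' N).hom, h N, h' N, h₀ N]

lemma IsLift.congr {F₀ G₀ : C → D} {F G : C' ⥤ D'}
    {e e₁ : ∀ N, F.obj (LC.obj N) ≅ LD.obj (F₀ N)}
    {e' e₁' : ∀ N, G.obj (LC.obj N) ≅ LD.obj (G₀ N)} {τ : F ⟶ G} {τ₀ : ∀ N, F₀ N ⟶ G₀ N}
    (h : IsLift LC LD e e' τ τ₀) (he : ∀ N, (e N).hom = (e₁ N).hom)
    (he' : ∀ N, (e' N).hom = (e₁' N).hom) : IsLift LC LD e₁ e₁' τ τ₀ := by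
  intro N
  rw [← he, ← he', h N]

lemma IsLift.whiskerRight {F₀ G₀ : C → D} {F G : C' ⥤ D'}
    {e : ∀ N, F.obj (LC.obj N) ≅ LD.obj (F₀ N)} {e' : ∀ N, G.obj (LC.obj N) ≅ LD.obj (G₀ N)}
    {τ : F ⟶ G} {τ₀ : ∀ N, F₀ N ⟶ G₀ N} (h : IsLift LC LD e e' τ τ₀)
    {K₀ : D ⥤ E} (K : D' ⥤ E') (k : LD ⋙ K ≅ K₀ ⋙ LE) :
    IsLift LC LE (F₀ := fun N => K₀.obj (F₀ N)) (G₀ := fun N => K₀.obj (G₀ N))
      (fun N => K.mapIso (e N) ≪≫ k.app (F₀ N)) (fun N => K.mapIso (e' N) ≪≫ k.app (G₀ N))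
      (Functor.whiskerRight τ K) (fun N => K₀.map (τ₀ N)) := by
  intro N
  dsimp
  rw [← Category.assoc, ← K.map_comp, h N, K.map_comp, Category.assoc, Category.assoc]
  congr 1
  exact k.hom.naturality (τ₀ N)

lemma IsLift.whiskerLeft {F₀ G₀ : C → D} {F G : C' ⥤ D'}
    {e : ∀ N, F.obj (LC.obj N) ≅ LD.obj (F₀ N)} {e' : ∀ N, G.obj (LC.obj N) ≅ LD.obj (G₀ N)}
    {τ : F ⟶ G} {τ₀ : ∀ N, F₀ N ⟶ G₀ N} (h : IsLift LC LD e e' τ τ₀)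
    {H₀ : B → C} (H : B' ⥤ C') (k : ∀ N, H.obj (LB.obj N) ≅ LC.obj (H₀ N)) :
    IsLift LB LD (F₀ := fun N => F₀ (H₀ N)) (G₀ := fun N => G₀ (H₀ N))
      (fun N => F.mapIso (k N) ≪≫ e (H₀ N)) (fun N => G.mapIso (k N) ≪≫ e' (H₀ N))
      (Functor.whiskerLeft H τ) (fun N => τ₀ (H₀ N)) := by
  intro N
  dsimp
  rw [← Category.assoc, ← τ.naturality, Category.assoc, h (H₀ N), Category.assoc]

lemma isLift_liftNI (W : MorphismProperty C) [LC.IsLocalization W] {F₀ G₀ : C ⥤ D}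
    {F G : C' ⥤ D'} (e : LC ⋙ F ≅ F₀ ⋙ LD) (e' : LC ⋙ G ≅ G₀ ⋙ LD) (τ : F₀ ≅ G₀) :
    IsLift LC LD (F₀ := F₀.obj) (G₀ := G₀.obj) (fun N => e.app N) (fun N => e'.app N)
      (liftNI LC W LD e e' τ).hom (fun N => τ.hom.app N) := by
  intro N
  rw [liftNI_hom_app]
  simp

lemma isLift_liftNT (W : MorphismProperty C) [LC.IsLocalization W] {F₀ G₀ : C ⥤ D}
    {F G : C' ⥤ D'} (e : LC ⋙ F ≅ F₀ ⋙ LD) (e' : LC ⋙ G ≅ G₀ ⋙ LD) (τ : F₀ ⟶ G₀) :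
    IsLift LC LD (F₀ := F₀.obj) (G₀ := G₀.obj) (fun N => e.app N) (fun N => e'.app N)
      (liftNT LC W LD e e' τ) (fun N => τ.app N) := by
  intro N
  rw [liftNT_app]
  simp

lemma IsLift.of_iso_inv {F₀ G₀ : C → D} {F G : C' ⥤ D'}
    {e : ∀ N, F.obj (LC.obj N) ≅ LD.obj (F₀ N)} {e' : ∀ N, G.obj (LC.obj N) ≅ LD.obj (G₀ N)}
    {τ : F ≅ G} {τ₀ : ∀ N, F₀ N ≅ G₀ N}
    (h : IsLift LC LD e e' τ.hom (fun N => (τ₀ N).hom)) :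
    IsLift LC LD e' e τ.inv (fun N => (τ₀ N).inv) := by
  intro N
  have h1 := h N
  dsimp only at h1 ⊢
  rw [← cancel_epi (τ.hom.app (LC.obj N)), Iso.hom_inv_id_app_assoc, reassoc_of% h1,
    ← LD.map_comp, Iso.hom_inv_id, LD.map_id, Category.comp_id]

end IsLift

end Groth.Agent.Lib.Helper5.Lin
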