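import Mathlib
import Groth.Prelude.Def_DCoh4
import Groth.Agent.Lib.Helper5.LTen.DerInv
import Groth.Agent.Lib.Helper5.LTen.Assoc3
import Groth.Agent.Lib.Helper5.Dual.Derived
import Groth.Agent.Lib.Helper5.Lin.Assoc4
import Groth.Agent.Lib.Helper5.Lin.LiftSq

/-!
# Left tensoring `M₀ ⊗ -` on the derived category and its commutation with `- ⊗^L E` (helper5)
-/
set_option autoImplicit false
set_option linter.unusedSectionVars false
set_option linter.unusedVariables false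
set_option linter.style.haveILetI false
universe u
open CategoryTheory CategoryTheory.Limits AlgebraicGeometry HomologicalComplex
attribute [local instance] HasDerivedCategory.standard

namespace Groth.Agent.Lib.Helper5.Lin

variable {X : Scheme.{u}}

/-- the class of quasi-isomorphisms -/
abbrev Wq (X : Scheme.{u}) : MorphismProperty (CochainComplex X.Modules ℤ) :=
  HomologicalComplex.quasiIso X.Modules (ComplexShape.up ℤ)

lemma inverts_lam (M₀ : CochainComplex X.Modules ℤ) (hM₀ : DCoh.IsKFlat M₀) :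
    (Wq X).IsInvertedBy ((DCoh.tensorCx (X := X)).obj M₀ ⋙ DerivedCategory.Q) := by
  intro E E' φ hφ
  have h1 := Groth.Agent.Lib.Helper5.LTenDer.quasiIso_tensor_obj M₀ hM₀ φ
    ((HomologicalComplex.mem_quasiIso_iff φ).1 hφ)
  exact Localization.inverts DerivedCategory.Q (Wq X) _
    ((HomologicalComplex.mem_quasiIso_iff _).2 h1)

/-- `Λ_{M₀} = M₀ ⊗ -` on the derived category, for `M₀` K-flat -/
noncomputable def Lam (M₀ : CochainComplex X.Modules ℤ) (hM₀ : DCoh.IsKFlat M₀) :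
    DCoh.D X ⥤ DCoh.D X :=
  Localization.lift _ (inverts_lam M₀ hM₀) DerivedCategory.Q

/-- the square of `Λ_{M₀}` -/
noncomputable def lamSq (M₀ : CochainComplex X.Modules ℤ) (hM₀ : DCoh.IsKFlat M₀) :
    DerivedCategory.Q ⋙ Lam M₀ hM₀ ≅ (DCoh.tensorCx (X := X)).obj M₀ ⋙ DerivedCategory.Q :=
  Localization.fac _ (inverts_lam M₀ hM₀) DerivedCategory.Q

/-- the square of `- ⊗^L E` for `E` K-flat -/
noncomputable def ltSq (E : CochainComplex X.Modules ℤ) (hE : DCoh.IsKFlat E)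
    [DCoh.HasLTensorCx E] :
    DerivedCategory.Q ⋙ DCoh.LTensorCx E ≅
      (DCoh.tensorCx (X := X)).flip.obj E ⋙ DerivedCategory.Q :=
  (Groth.Agent.Lib.Helper5.Dual.ltensorFac E hE).symm

/-- the chain-level commutation `(M₀ ⊗ N) ⊗ E ≅ M₀ ⊗ (N ⊗ E)`, natural in `N` -/
noncomputable def cxComm (M₀ E : CochainComplex X.Modules ℤ) :
    (DCoh.tensorCx (X := X)).obj M₀ ⋙ (DCoh.tensorCx (X := X)).flip.obj E ≅
      (DCoh.tensorCx (X := X)).flip.obj E ⋙ (DCoh.tensorCx (X := X)).obj M₀ :=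
  Groth.Agent.Lib.Helper5.TenAssoc.assocNat₂ X.sheaf M₀ E

/-- naturality of the chain-level commutation in `E` -/
lemma cxComm_naturality₃ (M₀ : CochainComplex X.Modules ℤ) {E E' : CochainComplex X.Modules ℤ}
    (q : E ⟶ E') (N : CochainComplex X.Modules ℤ) :
    (DCoh.tensorCx.obj ((DCoh.tensorCx.obj M₀).obj N)).map q ≫ (cxComm M₀ E').hom.app N =
      (cxComm M₀ E).hom.app N ≫ (DCoh.tensorCx.obj M₀).map ((DCoh.tensorCx.obj N).map q) :=
  Groth.Agent.Lib.Helper5.TenAssoc.assocCx_naturality₃ X.sheaf M₀ N q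

variable (M₀ : CochainComplex X.Modules ℤ) (hM₀ : DCoh.IsKFlat M₀)
  (E : CochainComplex X.Modules ℤ) (hE : DCoh.IsKFlat E) [DCoh.HasLTensorCx E]

/-- **the commutation isomorphism** `Λ (- ⊗^L E) ≅ (Λ -) ⊗^L E` on the derived category -/
noncomputable def commIso : Lam M₀ hM₀ ⋙ DCoh.LTensorCx E ≅ DCoh.LTensorCx E ⋙ Lam M₀ hM₀ :=
  liftNI DerivedCategory.Q (Wq X) DerivedCategory.Q
    (sqComp DerivedCategory.Q DerivedCategory.Q DerivedCategory.Q (lamSq M₀ hM₀) (ltSq E hE))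
    (sqComp DerivedCategory.Q DerivedCategory.Q DerivedCategory.Q (ltSq E hE) (lamSq M₀ hM₀))
    (cxComm M₀ E)

/-- pointwise square of `Λ` followed by `- ⊗^L E` -/
noncomputable def sqLamLt (N : CochainComplex X.Modules ℤ) :
    (DCoh.LTensorCx E).obj ((Lam M₀ hM₀).obj (DerivedCategory.Q.obj N)) ≅
      DerivedCategory.Q.obj ((DCoh.tensorCx.obj ((DCoh.tensorCx.obj M₀).obj N)).obj E) :=
  (DCoh.LTensorCx E).mapIso ((lamSq M₀ hM₀).app N) ≪≫
    (ltSq E hE).app ((DCoh.tensorCx.obj M₀).obj N)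

/-- pointwise square of `- ⊗^L E` followed by `Λ` -/
noncomputable def sqLtLam (N : CochainComplex X.Modules ℤ) :
    (Lam M₀ hM₀).obj ((DCoh.LTensorCx E).obj (DerivedCategory.Q.obj N)) ≅
      DerivedCategory.Q.obj ((DCoh.tensorCx.obj M₀).obj ((DCoh.tensorCx.obj N).obj E)) :=
  (Lam M₀ hM₀).mapIso ((ltSq E hE).app N) ≪≫
    (lamSq M₀ hM₀).app ((DCoh.tensorCx.obj N).obj E)

theorem isLift_commIso :
    IsLift DerivedCategory.Q DerivedCategory.Q
      (F := Lam M₀ hM₀ ⋙ DCoh.LTensorCx E) (G := DCoh.LTensorCx E ⋙ Lam M₀ hM₀)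
      (F₀ := fun N => (DCoh.tensorCx.obj ((DCoh.tensorCx.obj M₀).obj N)).obj E)
      (G₀ := fun N => (DCoh.tensorCx.obj M₀).obj ((DCoh.tensorCx.obj N).obj E))
      (sqLamLt M₀ hM₀ E hE) (sqLtLam M₀ hM₀ E hE) (commIso M₀ hM₀ E hE).hom
      (fun N => (cxComm M₀ E).hom.app N) := by
  refine (isLift_liftNI (Wq X) _ _ (cxComm M₀ E)).congr ?_ ?_
  · intro N
    simp [sqComp_hom_app, sqLamLt]
  · intro N
    simp [sqComp_hom_app, sqLtLam]

theorem isLift_commIso_inv :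
    IsLift DerivedCategory.Q DerivedCategory.Q
      (F := DCoh.LTensorCx E ⋙ Lam M₀ hM₀) (G := Lam M₀ hM₀ ⋙ DCoh.LTensorCx E)
      (F₀ := fun N => (DCoh.tensorCx.obj M₀).obj ((DCoh.tensorCx.obj N).obj E))
      (G₀ := fun N => (DCoh.tensorCx.obj ((DCoh.tensorCx.obj M₀).obj N)).obj E)
      (sqLtLam M₀ hM₀ E hE) (sqLamLt M₀ hM₀ E hE) (commIso M₀ hM₀ E hE).inv
      (fun N => (cxComm M₀ E).inv.app N) :=
  IsLift.of_iso_inv (τ := commIso M₀ hM₀ E hE) (τ₀ := fun N => (cxComm M₀ E).app N)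
    (isLift_commIso M₀ hM₀ E hE)

end Groth.Agent.Lib.Helper5.Lin
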