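import Mathlib

/-!
# Abstract mate calculus for `Λ (R N) ⟶ R (Λ N)` (helper5)

`L ⊣ R` an adjunction on a category, `Λ` an endofunctor commuting with `L`.  The mate
`Λ R ⟶ R Λ`, its behaviour under change of the adjunction, under "restriction" functors and
the criterion: the mate is an isomorphism when `L ⊣ L'` with a `Λ`-linear counit.
-/
set_option autoImplicit false
set_option linter.unusedSectionVars false
set_option linter.unusedVariables false
universe v₁ u₁ v₂ u₂
open CategoryTheory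

namespace Groth.Agent.Lib.Helper5.Lin

section mate

variable {C : Type u₁} [Category.{v₁} C] {L R : C ⥤ C} (adj : L ⊣ R) (Λ : C ⥤ C)
  (a : Λ ⋙ L ≅ L ⋙ Λ)

/-- the mate `Λ (R N) ⟶ R (Λ N)` of `a : L (Λ N) ≅ Λ (L N)` -/
noncomputable def mateB (N : C) : Λ.obj (R.obj N) ⟶ R.obj (Λ.obj N) :=
  adj.homEquiv _ _ (a.hom.app (R.obj N) ≫ Λ.map (adj.counit.app N))

lemma mateB_adj (N : C) :
    L.map (mateB adj Λ a N) ≫ adj.counit.app (Λ.obj N) =
      a.hom.app (R.obj N) ≫ Λ.map (adj.counit.app N) := by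
  unfold mateB
  exact (adj.homEquiv_counit _ _ _).symm.trans ((adj.homEquiv _ _).symm_apply_apply _)

/-- if the counit of `L ⊣ L'` is `Λ`-linear, the mate is the commutation isomorphism of `L'` -/
lemma mateB_eq_of_linear {L' : C ⥤ C} (adj' : L ⊣ L') (a' : L' ⋙ Λ ≅ Λ ⋙ L')
    (h : ∀ N : C, a.hom.app (L'.obj N) ≫ Λ.map (adj'.counit.app N) =
      L.map (a'.hom.app N) ≫ adj'.counit.app (Λ.obj N)) (N : C) :
    mateB adj' Λ a N = a'.hom.app N := by
  unfold mateB
  rw [h, Adjunction.homEquiv_naturality_left, Adjunction.homEquiv_unit]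
  erw [adj'.right_triangle_components, Category.comp_id]

/-- the mate does not depend on the right adjoint, up to the canonical isomorphism -/
lemma mateB_rightAdjointUniq {R' : C ⥤ C} (adj' : L ⊣ R') (N : C) :
    mateB adj Λ a N ≫ (adj.rightAdjointUniq adj').hom.app (Λ.obj N) =
      Λ.map ((adj.rightAdjointUniq adj').hom.app N) ≫ mateB adj' Λ a N := by
  apply (adj'.homEquiv _ _).symm.injective
  rw [Adjunction.homEquiv_counit, Adjunction.homEquiv_counit, Functor.map_comp, Functor.map_comp,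
    Category.assoc, Category.assoc, Adjunction.rightAdjointUniq_hom_app_counit, mateB_adj,
    mateB_adj]
  have h1 := a.hom.naturality ((adj.rightAdjointUniq adj').hom.app N)
  dsimp at h1
  rw [← Category.assoc, h1, Category.assoc, ← Functor.map_comp,
    Adjunction.rightAdjointUniq_hom_app_counit]

/-- **criterion**: if `L ⊣ L'` with `Λ`-linear counit then the mate for any right adjoint of `L`
is an isomorphism -/
theorem isIso_mateB_of_linear {L' : C ⥤ C} (adj' : L ⊣ L') (a' : L' ⋙ Λ ≅ Λ ⋙ L')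
    (h : ∀ N : C, a.hom.app (L'.obj N) ≫ Λ.map (adj'.counit.app N) =
      L.map (a'.hom.app N) ≫ adj'.counit.app (Λ.obj N)) (N : C) :
    IsIso (mateB adj Λ a N) := by
  have h1 := mateB_rightAdjointUniq adj Λ a adj' N
  rw [mateB_eq_of_linear Λ a adj' a' h N] at h1
  have h2 : IsIso (mateB adj Λ a N ≫ (adj.rightAdjointUniq adj').hom.app (Λ.obj N)) := by
    rw [h1]; infer_instance
  exact IsIso.of_isIso_comp_right _ ((adj.rightAdjointUniq adj').hom.app (Λ.obj N))

/-- transport of the linearity of the counit along an isomorphism of left adjoints -/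
lemma linear_ofNatIsoLeft {L₁ L' : C ⥤ C} (adj₁ : L₁ ⊣ L') (θ : L ≅ L₁)
    (a₁ : Λ ⋙ L₁ ≅ L₁ ⋙ Λ) (a' : L' ⋙ Λ ≅ Λ ⋙ L')
    (hθ : ∀ N : C, a.hom.app N ≫ Λ.map (θ.hom.app N) = θ.hom.app (Λ.obj N) ≫ a₁.hom.app N)
    (h : ∀ N : C, a₁.hom.app (L'.obj N) ≫ Λ.map (adj₁.counit.app N) =
      L₁.map (a'.hom.app N) ≫ adj₁.counit.app (Λ.obj N)) (N : C) :
    a.hom.app (L'.obj N) ≫ Λ.map ((adj₁.ofNatIsoLeft θ.symm).counit.app N) =
      L.map (a'.hom.app N) ≫ (adj₁.ofNatIsoLeft θ.symm).counit.app (Λ.obj N) := by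
  simp only [Adjunction.ofNatIsoLeft_counit, NatTrans.comp_app, Functor.whiskerLeft_app,
    Iso.symm_inv, Functor.map_comp]
  rw [← Category.assoc, hθ, Category.assoc, h, ← Category.assoc, ← Category.assoc]
  congr 1
  exact (θ.hom.naturality (a'.hom.app N)).symm

end mate

section restrict

variable {C : Type u₁} [Category.{v₁} C] {D : Type u₂} [Category.{v₂} D]
  {L R : C ⥤ C} (adj : L ⊣ R) {L' R' : D ⥤ D} (adj' : L' ⊣ R') (J : C ⥤ D)
  (σ : L ⋙ J ≅ J ⋙ L')

/-- the mate `J (R N) ⟶ R' (J N)` of `σ : J (L N) ≅ L' (J N)` -/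
noncomputable def mateρ (N : C) : J.obj (R.obj N) ⟶ R'.obj (J.obj N) :=
  adj'.homEquiv _ _ (σ.inv.app (R.obj N) ≫ J.map (adj.counit.app N))

lemma mateρ_adj (N : C) :
    L'.map (mateρ adj adj' J σ N) ≫ adj'.counit.app (J.obj N) =
      σ.inv.app (R.obj N) ≫ J.map (adj.counit.app N) := by
  unfold mateρ
  exact (adj'.homEquiv_counit _ _ _).symm.trans ((adj'.homEquiv _ _).symm_apply_apply _)

variable (Λ : C ⥤ C) (Λ' : D ⥤ D) (lam : Λ ⋙ J ≅ J ⋙ Λ')
  (a : Λ ⋙ L ≅ L ⋙ Λ) (a' : Λ' ⋙ L' ≅ L' ⋙ Λ')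

/-- **the mate commutes with restriction**, given the hexagon `(H)` -/
theorem mateB_restrict
    (H : ∀ N : C, σ.hom.app (Λ.obj N) ≫ L'.map (lam.hom.app N) ≫ a'.hom.app (J.obj N) =
      J.map (a.hom.app N) ≫ lam.hom.app (L.obj N) ≫ Λ'.map (σ.hom.app N)) (N : C) :
    J.map (mateB adj Λ a N) ≫ mateρ adj adj' J σ (Λ.obj N) ≫ R'.map (lam.hom.app N) =
      lam.hom.app (R.obj N) ≫ Λ'.map (mateρ adj adj' J σ N) ≫ mateB adj' Λ' a' (J.obj N) := by
  apply (adj'.homEquiv _ _).symm.injective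
  rw [Adjunction.homEquiv_counit, Adjunction.homEquiv_counit]
  simp only [Functor.map_comp, Category.assoc]
  -- left hand side
  have hl : L'.map (J.map (mateB adj Λ a N)) ≫ L'.map (mateρ adj adj' J σ (Λ.obj N)) ≫
      L'.map (R'.map (lam.hom.app N)) ≫ adj'.counit.app (Λ'.obj (J.obj N)) =
      σ.inv.app (Λ.obj (R.obj N)) ≫ J.map (a.hom.app (R.obj N)) ≫
        J.map (Λ.map (adj.counit.app N)) ≫ lam.hom.app N := by
    have e1 := adj'.counit.naturality (lam.hom.app N)
    dsimp at e1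
    rw [e1, ← Category.assoc (L'.map (mateρ adj adj' J σ (Λ.obj N))), mateρ_adj,
      Category.assoc]
    have e2 := σ.inv.naturality (mateB adj Λ a N)
    dsimp at e2
    rw [← Category.assoc, e2, Category.assoc, ← Category.assoc (J.map _), ← J.map_comp,
      mateB_adj, J.map_comp, Category.assoc]
  -- right hand side
  have hr : L'.map (lam.hom.app (R.obj N)) ≫ L'.map (Λ'.map (mateρ adj adj' J σ N)) ≫
      L'.map (mateB adj' Λ' a' (J.obj N)) ≫ adj'.counit.app (Λ'.obj (J.obj N)) =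
      σ.inv.app (Λ.obj (R.obj N)) ≫ J.map (a.hom.app (R.obj N)) ≫
        J.map (Λ.map (adj.counit.app N)) ≫ lam.hom.app N := by
    rw [mateB_adj]
    have e1 := a'.hom.naturality (mateρ adj adj' J σ N)
    dsimp at e1
    rw [← Category.assoc (L'.map (Λ'.map _)), e1, Category.assoc, ← Λ'.map_comp, mateρ_adj,
      Λ'.map_comp]
    have e2 := H (R.obj N)
    have e3 : L'.map (lam.hom.app (R.obj N)) ≫ a'.hom.app (J.obj (R.obj N)) =
        σ.inv.app (Λ.obj (R.obj N)) ≫ J.map (a.hom.app (R.obj N)) ≫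
          lam.hom.app (L.obj (R.obj N)) ≫ Λ'.map (σ.hom.app (R.obj N)) := by
      rw [← e2, Iso.inv_hom_id_app_assoc]
    rw [← Category.assoc, e3]
    simp only [Category.assoc]
    have e4 := lam.hom.naturality (adj.counit.app N)
    dsimp at e4
    have e5 : Λ'.map (σ.hom.app (R.obj N)) ≫ Λ'.map (σ.inv.app (R.obj N)) = 𝟙 _ := by
      rw [← Functor.map_comp, Iso.hom_inv_id_app]
      exact Λ'.map_id _
    rw [reassoc_of% e5, e4]
  exact hl.trans hr.symm

/-- the mate `ρ` is an isomorphism when `J` has a fully faithful left adjoint commuting with the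
`L`'s up to some isomorphism -/
theorem isIso_mateρ {Js : D ⥤ C} (adjJ : Js ⊣ J) [IsIso adjJ.unit]
    (π : L' ⋙ Js ≅ Js ⋙ L) (N : C) : IsIso (mateρ adj adj' J σ N) := by
  -- the candidate transformation between the left adjoints
  let pt : ∀ A : D, Js.obj (L'.obj A) ⟶ L.obj (Js.obj A) := fun A =>
    Js.map (L'.map (adjJ.unit.app A)) ≫ Js.map (σ.inv.app (Js.obj A)) ≫
      adjJ.counit.app (L.obj (Js.obj A))
  have hcounit : ∀ A : D, IsIso (adjJ.counit.app (Js.obj A)) := by
    intro A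
    have h1 : Js.map (adjJ.unit.app A) ≫ adjJ.counit.app (Js.obj A) = 𝟙 _ :=
      adjJ.left_triangle_components A
    haveI : IsIso (Js.map (adjJ.unit.app A)) := inferInstance
    exact IsIso.of_isIso_fac_left h1
  have hcounit' : ∀ A : D, IsIso (adjJ.counit.app (L.obj (Js.obj A))) := by
    intro A
    have := hcounit (L'.obj A)
    have e := adjJ.counit.naturality (π.hom.app A)
    dsimp at e
    have h2 : adjJ.counit.app (L.obj (Js.obj A)) =
        inv (Js.map (J.map (π.hom.app A))) ≫ adjJ.counit.app (Js.obj (L'.obj A)) ≫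
          π.hom.app A := by
      rw [← e, IsIso.inv_hom_id_assoc]
    rw [h2]
    infer_instance
  have hpt : ∀ A : D, IsIso (pt A) := by
    intro A
    haveI := hcounit' A
    dsimp only [pt]
    infer_instance
  -- the key formula
  have key : ∀ (A : D) (h : Js.obj A ⟶ R.obj N),
      (adjJ.homEquiv _ _).symm ((adj'.homEquiv _ _).symm
        (adjJ.homEquiv _ _ h ≫ mateρ adj adj' J σ N)) =
        pt A ≫ (adj.homEquiv _ _).symm h := by
    intro A h
    have hg : adjJ.unit.app A ≫ J.map h = adjJ.homEquiv _ _ h :=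
      (adjJ.homEquiv_unit _ _ _).symm
    simp only [Adjunction.homEquiv_counit, Functor.map_comp, Category.assoc, pt]
    have s1 : Js.map (L'.map (mateρ adj adj' J σ N)) ≫ Js.map (adj'.counit.app (J.obj N)) =
        Js.map (σ.inv.app (R.obj N)) ≫ Js.map (J.map (adj.counit.app N)) := by
      rw [← Js.map_comp, mateρ_adj, Js.map_comp]
    have s2 : Js.map (J.map (adj.counit.app N)) ≫ adjJ.counit.app N =
        adjJ.counit.app (L.obj (R.obj N)) ≫ adj.counit.app N :=
      adjJ.counit.naturality _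
    have s3 : adjJ.counit.app (L.obj (Js.obj A)) ≫ L.map h =
        Js.map (J.map (L.map h)) ≫ adjJ.counit.app (L.obj (R.obj N)) :=
      (adjJ.counit.naturality (L.map h)).symm
    have s4 : Js.map (σ.inv.app (Js.obj A)) ≫ Js.map (J.map (L.map h)) =
        Js.map (L'.map (J.map h)) ≫ Js.map (σ.inv.app (R.obj N)) := by
      rw [← Js.map_comp, ← Js.map_comp]
      congr 1
      exact (σ.inv.naturality h).symm
    have s5 : Js.map (L'.map (adjJ.unit.app A)) ≫ Js.map (L'.map (J.map h)) =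
        Js.map (L'.map (adjJ.homEquiv _ _ h)) := by
      rw [← Js.map_comp, ← L'.map_comp, hg]
    rw [reassoc_of% s1, s2, reassoc_of% s3, reassoc_of% s4, reassoc_of% s5]
  apply isIso_of_yoneda_map_bijective
  intro A
  constructor
  · intro g₁ g₂ hg
    dsimp at hg
    have h1 := key A ((adjJ.homEquiv _ _).symm g₁)
    have h2 := key A ((adjJ.homEquiv _ _).symm g₂)
    rw [Equiv.apply_symm_apply] at h1 h2
    rw [hg, h2] at h1
    haveI := hpt A
    have h3 := (cancel_epi (pt A)).1 h1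
    exact (adjJ.homEquiv _ _).symm.injective ((adj.homEquiv _ _).symm.injective h3.symm)
  · intro k
    haveI := hpt A
    let f : L.obj (Js.obj A) ⟶ N :=
      inv (pt A) ≫ (adjJ.homEquiv _ _).symm ((adj'.homEquiv _ _).symm k)
    refine ⟨adjJ.homEquiv _ _ (adj.homEquiv _ _ f), ?_⟩
    dsimp
    have h1 := key A (adj.homEquiv _ _ f)
    rw [Equiv.symm_apply_apply] at h1
    have h2 : pt A ≫ f = (adjJ.homEquiv _ _).symm ((adj'.homEquiv _ _).symm k) := by
      dsimp only [f]
      rw [IsIso.hom_inv_id_assoc]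
    rw [h2] at h1
    exact (adj'.homEquiv _ _).symm.injective ((adjJ.homEquiv _ _).symm.injective h1)

end restrict

end Groth.Agent.Lib.Helper5.Lin
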