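import Mathlib
import Groth.Agent.Lib.Helper5.LTen.Assoc1
import Groth.Agent.Lib.Helper5.KFlatSite2.TensorUnit

/-!
# Coherence between the associator and the right unitor for the tensor product of sheaves of
modules on a ringed site (helper5)
-/
set_option autoImplicit false
set_option linter.unusedSectionVars false
set_option linter.unusedVariables false
set_option linter.style.haveILetI false
universe u
open CategoryTheory CategoryTheory.Limits MonoidalCategory Opposite

namespace Groth.Agent.Lib.Helper5.TenAssoc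

open Groth.Agent.Lib.Helper5.TensorSheaf Groth.Agent.Lib.Helper5.TensorUnit

variable {C : Type u} [SmallCategory C] {J : GrothendieckTopology C} {O : Sheaf J CommRingCat.{u}}

lemma un_fgt_counit (N : ModSite.Mod O) :
    un ((fgt O).obj N) ≫ (fgt O).map ((adj O).counit.app N) = 𝟙 _ :=
  (adj O).right_triangle_components N

lemma shf_un_counit (X : PM O) :
    (shf O).map (un X) ≫ (adj O).counit.app ((shf O).obj X) = 𝟙 _ :=
  (adj O).left_triangle_components X

lemma un_unitIsoApp (N : ModSite.Mod O) :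
    un ((fgt O).obj N ⊗ 𝟙_ (PM O)) ≫ (fgt O).map (unitIsoApp O N).hom =
      (ρ_ ((fgt O).obj N)).hom := by
  show un ((fgt O).obj N ⊗ 𝟙_ (PM O)) ≫
    (fgt O).map ((shf O).map (ρ_ ((fgt O).obj N)).hom ≫ (adj O).counit.app N) = _
  rw [Functor.map_comp, ← Category.assoc, ← un_naturality, Category.assoc, un_fgt_counit,
    Category.comp_id]

/-- **coherence**: `ρ_{M ⊗ N} = α_{M,N,O} ≫ M ⊗ ρ_N` -/
theorem rho_coherence (M N : ModSite.Mod O) :
    (assocObj M N (ModSite.unit O)).hom ≫ ((T O).obj M).map ((unitIso O).hom.app N) =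
      (unitIso O).hom.app (((T O).obj M).obj N) := by
  rw [← cancel_epi (a₁ M N (ModSite.unit O)), a₁_assocObj_hom_assoc]
  have hL : a₂ M N (ModSite.unit O) ≫ ((T O).obj M).map ((unitIso O).hom.app N) =
      (shf O).map ((fgt O).obj M ◁ (ρ_ ((fgt O).obj N)).hom) := by
    show (shf O).map ((fgt O).obj M ◁ un ((fgt O).obj N ⊗ 𝟙_ (PM O))) ≫
      (shf O).map ((fgt O).obj M ◁ (fgt O).map (unitIsoApp O N).hom) = _
    rw [← Functor.map_comp, ← MonoidalCategory.whiskerLeft_comp, un_unitIsoApp]
  have hR : a₁ M N (ModSite.unit O) ≫ (unitIso O).hom.app (((T O).obj M).obj N) =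
      (shf O).map (ρ_ ((fgt O).obj M ⊗ (fgt O).obj N)).hom := by
    show (shf O).map (un ((fgt O).obj M ⊗ (fgt O).obj N) ▷ 𝟙_ (PM O)) ≫
      ((shf O).map (ρ_ ((fgt O).obj ((shf O).obj ((fgt O).obj M ⊗ (fgt O).obj N)))).hom ≫
        (adj O).counit.app _) = _
    rw [← Category.assoc, ← Functor.map_comp, rightUnitor_naturality, Functor.map_comp,
      Category.assoc, shf_un_counit, Category.comp_id]
  rw [hL, hR]
  show (shf O).map (α_ ((fgt O).obj M) ((fgt O).obj N) (𝟙_ (PM O))).hom ≫
    (shf O).map ((fgt O).obj M ◁ (ρ_ ((fgt O).obj N)).hom) = _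
  rw [← Functor.map_comp, rightUnitor_tensor_hom]

end Groth.Agent.Lib.Helper5.TenAssoc
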