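import Mathlib
import Groth.Prelude.Def_KFlatSite
import Groth.Agent.Lib.Helper5.Lin.DecompLin
import Groth.Agent.Lib.Helper5.Lin.RhoCoh
import Groth.Agent.Lib.Helper5.Lin.Assoc4
import Groth.Agent.Lib.Helper5.Misc.TensorSES

/-!
# The chain-level adjunction `- ⊗ P ⊣ - ⊗ P^∨` on a ringed site and the linearity of its counit
(helper5)
-/
set_option autoImplicit false
set_option linter.unusedSectionVars false
set_option linter.unusedVariables false
set_option linter.style.haveILetI false
universe u
open CategoryTheory CategoryTheory.Limits HomologicalComplex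

namespace Groth.Agent.Lib.Helper5.Lin

open Groth.Agent.Lib.Helper5.Dual

variable {C : Type u} [SmallCategory C] {J : GrothendieckTopology C} (O : Sheaf J CommRingCat.{u})
  (hcomm : ∀ f g : ModSite.unit O ⟶ ModSite.unit O, f ≫ g = g ≫ f)
  (P : CochainComplex (ModSite.Mod O) ℤ) (n : ℤ → ℕ)
  (dec : ∀ q : ℤ, Decomp (ModSite.unit O) (P.X q) (n q)) (a : ℤ) (k : ℕ)
  (hE : ∀ q : ℤ, (q < a ∨ a + k < q) → IsZero (P.X q))

/-- the dual complex -/
noncomputable abbrev siteDual : CochainComplex (ModSite.Mod O) ℤ := dualCx hcomm P n dec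

/-- the chain-level adjunction `- ⊗ P ⊣ - ⊗ P^∨` -/
noncomputable def siteAdj :
    (ModSite.tensorCx O).flip.obj P ⊣ (ModSite.tensorCx O).flip.obj (siteDual O hcomm P n dec) :=
  dualAdj (ModSite.tensorBi O) (Groth.Agent.Lib.Helper5.TensorUnit.unitIso O) hcomm P n dec a k hE

/-- **linearity of the counit of `- ⊗ P ⊣ - ⊗ P^∨`** -/
theorem siteAdj_counit_linear (K M : CochainComplex (ModSite.Mod O) ℤ) :
    ((ModSite.tensorCx O).map
        ((Groth.Agent.Lib.Helper5.TenAssoc.assocCx O K M (siteDual O hcomm P n dec)).hom)).app P ≫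
      (Groth.Agent.Lib.Helper5.TenAssoc.assocCx O K
        (((ModSite.tensorCx O).obj M).obj (siteDual O hcomm P n dec)) P).hom ≫
      ((ModSite.tensorCx O).obj K).map ((siteAdj O hcomm P n dec a k hE).counit.app M) =
    (siteAdj O hcomm P n dec a k hE).counit.app (((ModSite.tensorCx O).obj K).obj M) :=
  dualAdj_counit_linear (ModSite.tensorBi O)
    (Groth.Agent.Lib.Helper5.TenAssoc.assoc O)
    (Groth.Agent.Lib.Helper5.TensorUnit.unitIso O) hcomm
    (fun B C => Groth.Agent.Lib.Helper5.TenAssoc.rho_coherence B C) P n dec a k hE K M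

end Groth.Agent.Lib.Helper5.Lin
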