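import Mathlib
import Groth.Prelude.Def_DCoh4
import Groth.Agent.Lib.Helper5.Dual.SchFree
import Groth.Agent.Lib.Helper5.Dual.Derived
import Groth.Agent.Lib.Helper5.Lin.SiteLin
import Groth.Agent.Lib.Helper5.Lin.LamFun
import Groth.Agent.Lib.Helper5.Lin.Mate

/-!
# Derived linearity of the counit of `- ⊗^L P ⊣ - ⊗^L P^∨` and the resulting isomorphism
`M₀ ⊗ RHom(P, N) ≅ RHom(P, M₀ ⊗ N)` (helper5)
-/
set_option autoImplicit false
set_option linter.unusedSectionVars false
set_option linter.unusedVariables false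
set_option linter.style.haveILetI false
universe u
open CategoryTheory CategoryTheory.Limits AlgebraicGeometry HomologicalComplex
attribute [local instance] HasDerivedCategory.standard

namespace Groth.Agent.Lib.Helper5.Lin

open Groth.Agent.Lib.Helper5.Dual

variable {W : Scheme.{u}}

section general

variable (P Pd : CochainComplex W.Modules ℤ) (hP : DCoh.IsKFlat P) (hPd : DCoh.IsKFlat Pd)
  [DCoh.HasLTensorCx P] [DCoh.HasLTensorCx Pd]
  (adj : (DCoh.tensorCx (X := W)).flip.obj P ⊣ (DCoh.tensorCx (X := W)).flip.obj Pd)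

lemma ltensorAdj_counit_app (M : CochainComplex W.Modules ℤ) :
    (ltensorAdjOfAdj P Pd hP hPd adj).counit.app (DerivedCategory.Q.obj M) =
      (DCoh.LTensorCx P).map ((ltSq Pd hPd).hom.app M) ≫
        (ltSq P hP).hom.app ((DCoh.tensorCx.obj M).obj Pd) ≫
        DerivedCategory.Q.map (adj.counit.app M) := by
  letI : CatCommSq ((DCoh.tensorCx (X := W)).flip.obj P) DerivedCategory.Q DerivedCategory.Q
      (DCoh.LTensorCx P) := ⟨ltensorFac P hP⟩
  letI : CatCommSq ((DCoh.tensorCx (X := W)).flip.obj Pd) DerivedCategory.Q DerivedCategory.Q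
      (DCoh.LTensorCx Pd) := ⟨ltensorFac Pd hPd⟩
  exact Adjunction.localization_counit_app adj DerivedCategory.Q (Wq W) DerivedCategory.Q (Wq W)
    (DCoh.LTensorCx P) (DCoh.LTensorCx Pd) M

variable (K : CochainComplex W.Modules ℤ) (hK : DCoh.IsKFlat K)

/-- the left hand side of the linearity identity, as a natural transformation -/
noncomputable def linL :
    DCoh.LTensorCx Pd ⋙ Lam K hK ⋙ DCoh.LTensorCx P ⟶ Lam K hK where
  app N := (commIso K hK P hP).hom.app ((DCoh.LTensorCx Pd).obj N) ≫
    (Lam K hK).map ((ltensorAdjOfAdj P Pd hP hPd adj).counit.app N)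
  naturality N N' f := by
    have h1 := (commIso K hK P hP).hom.naturality ((DCoh.LTensorCx Pd).map f)
    have h2 := (ltensorAdjOfAdj P Pd hP hPd adj).counit.naturality f
    dsimp at h1 h2 ⊢
    rw [reassoc_of% h1, ← Functor.map_comp, h2, Functor.map_comp, Category.assoc]

/-- the right hand side of the linearity identity, as a natural transformation -/
noncomputable def linR :
    DCoh.LTensorCx Pd ⋙ Lam K hK ⋙ DCoh.LTensorCx P ⟶ Lam K hK where
  app N := (DCoh.LTensorCx P).map ((commIso K hK Pd hPd).inv.app N) ≫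
    (ltensorAdjOfAdj P Pd hP hPd adj).counit.app ((Lam K hK).obj N)
  naturality N N' f := by
    have h1 := (commIso K hK Pd hPd).inv.naturality f
    have h2 := (ltensorAdjOfAdj P Pd hP hPd adj).counit.naturality ((Lam K hK).map f)
    dsimp at h1 h2 ⊢
    rw [← Functor.map_comp_assoc, h1, Functor.map_comp, Category.assoc, h2, Category.assoc]

/-- **derived linearity of the counit**, from the chain-level linearity -/
theorem linL_eq_linR
    (hCL : ∀ M : CochainComplex W.Modules ℤ,
      (DCoh.tensorCx.map ((cxComm K Pd).hom.app M)).app P ≫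
        (cxComm K P).hom.app ((DCoh.tensorCx.obj M).obj Pd) ≫
        (DCoh.tensorCx.obj K).map (adj.counit.app M) =
      adj.counit.app ((DCoh.tensorCx.obj K).obj M)) :
    linL P Pd hP hPd adj K hK = linR P Pd hP hPd adj K hK := by
  apply Localization.natTrans_ext DerivedCategory.Q (Wq W)
  intro M
  rw [← cancel_mono ((lamSq K hK).hom.app M)]
  -- the left hand side
  have A1 := (commIso K hK P hP).hom.naturality ((ltSq Pd hPd).hom.app M)
  have A2 := isLift_commIso K hK P hP ((DCoh.tensorCx.obj M).obj Pd)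
  have A3 := (lamSq K hK).hom.naturality (adj.counit.app M)
  have hL : (linL P Pd hP hPd adj K hK).app (DerivedCategory.Q.obj M) ≫ (lamSq K hK).hom.app M =
      (DCoh.LTensorCx P).map ((Lam K hK).map ((ltSq Pd hPd).hom.app M)) ≫
        (sqLamLt K hK P hP ((DCoh.tensorCx.obj M).obj Pd)).hom ≫
        DerivedCategory.Q.map ((cxComm K P).hom.app ((DCoh.tensorCx.obj M).obj Pd) ≫
          (DCoh.tensorCx.obj K).map (adj.counit.app M)) := by
    dsimp only [linL]
    rw [ltensorAdj_counit_app]
    dsimp at A1 A3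
    dsimp only [sqLtLam, Iso.trans_hom, Functor.mapIso_hom, Iso.app_hom] at A2
    simp only [Functor.map_comp, Category.assoc]
    rw [← reassoc_of% A1, A3, reassoc_of% A2]
  -- the right hand side
  have B1 := (ltensorAdjOfAdj P Pd hP hPd adj).counit.naturality ((lamSq K hK).hom.app M)
  have B2 := isLift_commIso_inv K hK Pd hPd M
  have B3 := (ltSq P hP).hom.naturality ((cxComm K Pd).inv.app M)
  have hR : (linR P Pd hP hPd adj K hK).app (DerivedCategory.Q.obj M) ≫ (lamSq K hK).hom.app M =
      (DCoh.LTensorCx P).map ((Lam K hK).map ((ltSq Pd hPd).hom.app M)) ≫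
        (sqLamLt K hK P hP ((DCoh.tensorCx.obj M).obj Pd)).hom ≫
        DerivedCategory.Q.map ((DCoh.tensorCx.map ((cxComm K Pd).inv.app M)).app P ≫
          adj.counit.app ((DCoh.tensorCx.obj K).obj M)) := by
    dsimp only [linR]
    dsimp at B1 B3
    dsimp only [sqLtLam, sqLamLt, Iso.trans_hom, Functor.mapIso_hom, Iso.app_hom] at B2 ⊢
    rw [Category.assoc, ← B1, ltensorAdj_counit_app]
    simp only [Functor.map_comp, Category.assoc]
    rw [← (DCoh.LTensorCx P).map_comp_assoc, ← (DCoh.LTensorCx P).map_comp_assoc,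
      Category.assoc, B2]
    simp only [Functor.map_comp, Category.assoc]
    rw [reassoc_of% B3]
  rw [hL, hR]
  congr 3
  rw [← hCL M, ← Category.assoc, ← NatTrans.comp_app, ← Functor.map_comp, Iso.inv_hom_id_app]
  simp

end general

section free

variable (P : CochainComplex W.Modules ℤ) (n : ℤ → ℕ)
  (dec : ∀ q : ℤ, Decomp (Coh.structureModule W) (P.X q) (n q)) (a : ℤ) (k : ℕ)
  (hE : ∀ q : ℤ, (q < a ∨ a + k < q) → IsZero (P.X q))

/-- the dual complex of a bounded complex of finite free modules -/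
noncomputable abbrev schDual : CochainComplex W.Modules ℤ :=
  siteDual W.sheaf (structureModule_end_comm W) P n dec

/-- the chain-level adjunction `- ⊗ P ⊣ - ⊗ P^∨` -/
noncomputable def schAdj :
    (DCoh.tensorCx (X := W)).flip.obj P ⊣ (DCoh.tensorCx (X := W)).flip.obj (schDual P n dec) :=
  siteAdj W.sheaf (structureModule_end_comm W) P n dec a k hE

theorem schAdj_counit_linear (K M : CochainComplex W.Modules ℤ) :
    (DCoh.tensorCx.map ((cxComm K (schDual P n dec)).hom.app M)).app P ≫
      (cxComm K P).hom.app ((DCoh.tensorCx.obj M).obj (schDual P n dec)) ≫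
      (DCoh.tensorCx.obj K).map ((schAdj P n dec a k hE).counit.app M) =
    (schAdj P n dec a k hE).counit.app ((DCoh.tensorCx.obj K).obj M) :=
  siteAdj_counit_linear W.sheaf (structureModule_end_comm W) P n dec a k hE K M

variable (hP : DCoh.IsKFlat P) (hPd : DCoh.IsKFlat (schDual P n dec))
  [DCoh.HasLTensorCx P] [DCoh.HasLTensorCx (schDual P n dec)]

/-- the derived adjunction `- ⊗^L P ⊣ - ⊗^L P^∨` -/
noncomputable def schAdjD : DCoh.LTensorCx P ⊣ DCoh.LTensorCx (schDual P n dec) :=
  ltensorAdjOfAdj P (schDual P n dec) hP hPd (schAdj P n dec a k hE)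

/-- **the counit of `- ⊗^L P ⊣ - ⊗^L P^∨` is linear** -/
theorem schAdjD_linear (K : CochainComplex W.Modules ℤ) (hK : DCoh.IsKFlat K) (N : DCoh.D W) :
    (commIso K hK P hP).hom.app ((DCoh.LTensorCx (schDual P n dec)).obj N) ≫
      (Lam K hK).map ((schAdjD P n dec a k hE hP hPd).counit.app N) =
    (DCoh.LTensorCx P).map ((commIso K hK (schDual P n dec) hPd).symm.hom.app N) ≫
      (schAdjD P n dec a k hE hP hPd).counit.app ((Lam K hK).obj N) :=
  congr_app (linL_eq_linR P (schDual P n dec) hP hPd (schAdj P n dec a k hE) K hK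
    (fun M => schAdj_counit_linear P n dec a k hE K M)) N

end free

end Groth.Agent.Lib.Helper5.Lin
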