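import Mathlib
import Groth.Prelude.Def_DCoh4
import Groth.Agent.Lib.Helper5.BC.LTenCongr
import Groth.Agent.Lib.Helper5.Lin.DerLin

/-!
# Transfer of the isomorphism `M₀ ⊗ RHom(E, N) ≅ RHom(E, M₀ ⊗ N)` along quasi-isomorphisms of
K-flat complexes (helper5)
-/
set_option autoImplicit false
set_option linter.unusedSectionVars false
set_option linter.unusedVariables false
set_option linter.style.haveILetI false
universe u
open CategoryTheory CategoryTheory.Limits AlgebraicGeometry HomologicalComplex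
attribute [local instance] HasDerivedCategory.standard

namespace Groth.Agent.Lib.Helper5.Lin

open Groth.Agent.Lib.Helper5.Dual Groth.Agent.Lib.Helper5.LTenCongr

variable {W : Scheme.{u}}

section

variable {E₁ E₂ : CochainComplex W.Modules ℤ} (h₁ : DCoh.IsKFlat E₁) (h₂ : DCoh.IsKFlat E₂)
  [DCoh.HasLTensorCx E₁] [DCoh.HasLTensorCx E₂] (q : E₁ ⟶ E₂)

lemma ltenMap_app_Q (M : CochainComplex W.Modules ℤ) :
    (ltenMap q).app (DerivedCategory.Q.obj M) ≫ (ltSq E₂ h₂).hom.app M =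
      (ltSq E₁ h₁).hom.app M ≫ DerivedCategory.Q.map ((DCoh.tensorCx.obj M).map q) :=
  Functor.leftDerivedNatTrans_app _ _ _ _ _ _ _

/-- **the commutation isomorphisms are natural in the complex** -/
theorem commIso_ltenMap (K : CochainComplex W.Modules ℤ) (hK : DCoh.IsKFlat K) (N : DCoh.D W) :
    (commIso K hK E₁ h₁).hom.app N ≫ (Lam K hK).map ((ltenMap q).app N) =
      (ltenMap q).app ((Lam K hK).obj N) ≫ (commIso K hK E₂ h₂).hom.app N := by
  have key : (commIso K hK E₁ h₁).hom ≫ Functor.whiskerRight (ltenMap q) (Lam K hK) =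
      Functor.whiskerLeft (Lam K hK) (ltenMap q) ≫ (commIso K hK E₂ h₂).hom := by
    apply Localization.natTrans_ext DerivedCategory.Q (Wq W)
    intro M
    rw [← cancel_mono (sqLtLam K hK E₂ h₂ M).hom]
    have A1 := isLift_commIso K hK E₁ h₁ M
    have A2 := isLift_commIso K hK E₂ h₂ M
    have A3 := ltenMap_app_Q h₁ h₂ q M
    have A4 := (lamSq K hK).hom.naturality ((DCoh.tensorCx.obj M).map q)
    have A5 := (ltenMap q).naturality ((lamSq K hK).hom.app M)
    have A6 := ltenMap_app_Q h₁ h₂ q ((DCoh.tensorCx.obj K).obj M)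
    have A7 := cxComm_naturality₃ K q M
    dsimp at A4 A5
    dsimp only [sqLtLam, sqLamLt, Iso.trans_hom, Functor.mapIso_hom, Iso.app_hom] at A1 A2 ⊢
    simp only [NatTrans.comp_app, Functor.whiskerRight_app, Functor.whiskerLeft_app,
      Category.assoc]
    rw [← (Lam K hK).map_comp_assoc, A3, (Lam K hK).map_comp_assoc, A4, reassoc_of% A1, A2]
    simp only [Category.assoc]
    rw [← reassoc_of% A5, reassoc_of% A6, ← Functor.map_comp, ← Functor.map_comp, A7]
  exact congr_app key N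

end

/-- `- ⊗^L E` has a right adjoint with `Λ_K`-linear counit -/
def HasLinAdj (E : CochainComplex W.Modules ℤ) (hE : DCoh.IsKFlat E) [DCoh.HasLTensorCx E]
    (K : CochainComplex W.Modules ℤ) (hK : DCoh.IsKFlat K) : Prop :=
  ∃ (L' : DCoh.D W ⥤ DCoh.D W) (adj' : DCoh.LTensorCx E ⊣ L')
    (a' : L' ⋙ Lam K hK ≅ Lam K hK ⋙ L'),
    ∀ N : DCoh.D W, (commIso K hK E hE).hom.app (L'.obj N) ≫ (Lam K hK).map (adj'.counit.app N) =
      (DCoh.LTensorCx E).map (a'.hom.app N) ≫ adj'.counit.app ((Lam K hK).obj N)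

theorem HasLinAdj.isIso_mateB {E : CochainComplex W.Modules ℤ} {hE : DCoh.IsKFlat E}
    [DCoh.HasLTensorCx E] {K : CochainComplex W.Modules ℤ} {hK : DCoh.IsKFlat K}
    (h : HasLinAdj E hE K hK) {R : DCoh.D W ⥤ DCoh.D W} (adjR : DCoh.LTensorCx E ⊣ R)
    (N : DCoh.D W) : IsIso (mateB adjR (Lam K hK) (commIso K hK E hE) N) := by
  obtain ⟨L', adj', a', h'⟩ := h
  exact isIso_mateB_of_linear adjR (Lam K hK) (commIso K hK E hE) adj' a' h' N

section

variable {E₁ E₂ : CochainComplex W.Modules ℤ} (h₁ : DCoh.IsKFlat E₁) (h₂ : DCoh.IsKFlat E₂)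
  [DCoh.HasLTensorCx E₁] [DCoh.HasLTensorCx E₂] (q : E₁ ⟶ E₂) (hq : QuasiIso q)
  (K : CochainComplex W.Modules ℤ) (hK : DCoh.IsKFlat K)

include hq in
theorem HasLinAdj.of_quasiIso_right (h : HasLinAdj E₂ h₂ K hK) : HasLinAdj E₁ h₁ K hK := by
  obtain ⟨L', adj', a', h'⟩ := h
  let θ : DCoh.LTensorCx E₁ ≅ DCoh.LTensorCx E₂ := ltensorIsoOfQuasiIso q hq
  refine ⟨L', adj'.ofNatIsoLeft θ.symm, a', ?_⟩
  intro N
  exact linear_ofNatIsoLeft (Lam K hK) (commIso K hK E₁ h₁) adj' θ (commIso K hK E₂ h₂) a'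
    (fun N => commIso_ltenMap h₁ h₂ q K hK N) h' N

include hq in
theorem HasLinAdj.of_quasiIso_left (h : HasLinAdj E₁ h₁ K hK) : HasLinAdj E₂ h₂ K hK := by
  obtain ⟨L', adj', a', h'⟩ := h
  let θ : DCoh.LTensorCx E₁ ≅ DCoh.LTensorCx E₂ := ltensorIsoOfQuasiIso q hq
  refine ⟨L', adj'.ofNatIsoLeft θ, a', ?_⟩
  intro N
  have hθ : ∀ N : DCoh.D W, (commIso K hK E₂ h₂).hom.app N ≫ (Lam K hK).map (θ.symm.hom.app N) =
      θ.symm.hom.app ((Lam K hK).obj N) ≫ (commIso K hK E₁ h₁).hom.app N := by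
    intro N
    have h0 : (commIso K hK E₁ h₁).hom.app N ≫ (Lam K hK).map (θ.hom.app N) =
        θ.hom.app ((Lam K hK).obj N) ≫ (commIso K hK E₂ h₂).hom.app N :=
      commIso_ltenMap h₁ h₂ q K hK N
    dsimp only [Iso.symm_hom]
    rw [← cancel_epi (θ.hom.app ((Lam K hK).obj N)), ← reassoc_of% h0, ← Functor.map_comp,
      Iso.hom_inv_id_app, Iso.hom_inv_id_app_assoc, CategoryTheory.Functor.map_id,
      Category.comp_id]
  exact linear_ofNatIsoLeft (Lam K hK) (commIso K hK E₂ h₂) adj' θ.symm (commIso K hK E₁ h₁) a'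
    hθ h' N

end

/-- **transfer along an isomorphism in the derived category** -/
theorem HasLinAdj.of_iso {E P : CochainComplex W.Modules ℤ} (hE : DCoh.IsKFlat E)
    (hP : DCoh.IsKFlat P) [DCoh.HasLTensorCx E] [DCoh.HasLTensorCx P]
    (e : DerivedCategory.Q.obj E ≅ DerivedCategory.Q.obj P)
    (K : CochainComplex W.Modules ℤ) (hK : DCoh.IsKFlat K) (h : HasLinAdj P hP K hK) :
    HasLinAdj E hE K hK := by
  obtain ⟨K'', s, hs, g, hfac⟩ := DerivedCategory.right_fac e.hom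
  have hs' : QuasiIso s := (DerivedCategory.isIso_Q_map_iff_quasiIso _ _).1 hs
  have hg : IsIso (DerivedCategory.Q.map g) := by
    have h1 : DerivedCategory.Q.map g = DerivedCategory.Q.map s ≫ e.hom := by
      rw [hfac, IsIso.hom_inv_id_assoc]
    rw [h1]
    infer_instance
  have hg' : QuasiIso g := (DerivedCategory.isIso_Q_map_iff_quasiIso _ _).1 hg
  obtain ⟨F₀, p₀, hF₀, _, hp₀, _⟩ :=
    Groth.Agent.Lib.Helper5.KFlatSiteQ.exists_isKFlat_resolution (O := W.sheaf) K''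
  let F : CochainComplex W.Modules ℤ := F₀
  let p : F ⟶ K'' := p₀
  have hF : DCoh.IsKFlat F := hF₀
  haveI : DCoh.HasLTensorCx F := Groth.Agent.Lib.Helper5.LTenAll.hasLTensorCx F
  have hp' : QuasiIso p := hp₀
  have hps : QuasiIso (p ≫ s) := by
    haveI := hp'
    haveI := hs'
    exact _root_.quasiIso_comp p s
  have hpg : QuasiIso (p ≫ g) := by
    haveI := hp'
    haveI := hg'
    exact _root_.quasiIso_comp p g
  have hF' : HasLinAdj F hF K hK := HasLinAdj.of_quasiIso_right hF hP (p ≫ g) hpg K hK h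
  exact HasLinAdj.of_quasiIso_left hF hE (p ≫ s) hps K hK hF'

end Groth.Agent.Lib.Helper5.Lin
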