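import Mathlib
import Groth.Prelude.Def_DCoh4
import Groth.Agent.Lib.Helper5.Lin.Roof
import Groth.Agent.Lib.Helper5.Dual.LocalRHom

/-!
# `- ⊗^L E` has a linear right adjoint, locally, for `E` perfect (helper5)
-/
set_option autoImplicit false
set_option linter.unusedSectionVars false
set_option linter.unusedVariables false
set_option linter.style.haveILetI false
universe u
open CategoryTheory CategoryTheory.Limits AlgebraicGeometry HomologicalComplex
attribute [local instance] HasDerivedCategory.standard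

namespace Groth.Agent.Lib.Helper5.Lin

open Groth.Agent.Lib.Helper5.Dual Groth.Agent.Lib.Helper5.LTenCongr
  Groth.Agent.Lib.Helper5.ShriekProj

variable {W : Scheme.{u}}

theorem hasLinAdj_of_free (P : CochainComplex W.Modules ℤ) (a b : ℤ)
    (hab : DCoh.VanishesOutside P a b)
    (hfree : ∀ i : ℤ, ∃ n : ℕ, Nonempty (P.X i ≅ FlatMod.freeMod W n)) [DCoh.HasLTensorCx P]
    (hP : DCoh.IsKFlat P) (K : CochainComplex W.Modules ℤ) (hK : DCoh.IsKFlat K) :
    HasLinAdj P hP K hK := by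
  choose n hn using hfree
  let dec : ∀ q : ℤ, Decomp (Coh.structureModule W) (P.X q) (n q) := fun q =>
    (freeDecomp W (n q)).trans (hn q).some.symm
  have hE : ∀ q : ℤ, (q < a ∨ a + ((b - a).toNat : ℤ) < q) → IsZero (P.X q) :=
    fun q hq => hab q (by omega)
  have hv : DCoh.VanishesOutside (schDual P n dec) (-b) (-a) := by
    intro i hi
    exact hab (-i) (by omega)
  have hfl : ∀ i : ℤ, FlatMod.IsFinLocFree ((schDual P n dec).X i) := fun i =>
    Groth.Agent.Lib.Helper5.Shrink.isFinLocFree_of_iso_free (P.X (-i)) (n (-i)) (hn (-i)).some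
  have hsp : DCoh.IsStrictlyPerfect (schDual P n dec) := ⟨⟨-b, -a, hv⟩, hfl⟩
  have hPd : DCoh.IsKFlat (schDual P n dec) :=
    Groth.Agent.Lib.Helper5.LTenDer.isKFlat_of_isStrictlyPerfect _ hsp
  haveI : DCoh.HasLTensorCx (schDual P n dec) := Groth.Agent.Lib.Helper5.LTenAll.hasLTensorCx _
  exact ⟨DCoh.LTensorCx (schDual P n dec), schAdjD P n dec a (b - a).toNat hE hP hPd,
    (commIso K hK (schDual P n dec) hPd).symm,
    fun N => schAdjD_linear P n dec a (b - a).toNat hE hP hPd K hK N⟩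

variable {X : Scheme.{u}}

/-- **for `E` K-flat perfect, `- ⊗^L E|_V` has a linear right adjoint on small opens `V`** -/
theorem exists_local_hasLinAdj (E : CochainComplex X.Modules ℤ) (hE : DCoh.IsKFlat E)
    (hEp : DCoh.IsPerfect (DCoh.toD X E)) (x : X) :
    ∃ V : X.Opens, x ∈ V ∧ ∀ [DCoh.HasLTensorCx (KV V E)]
      (K' : CochainComplex (V : Scheme.{u}).Modules ℤ) (hK' : DCoh.IsKFlat K'),
      HasLinAdj (KV V E) (Groth.Agent.Lib.Helper5.PerfTensor.isKFlat_restrict V.ι E hE) K' hK' := by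
  obtain ⟨V, hxV, hV⟩ := (Groth.Agent.Lib.Helper5.Shrink.perfect_iff_locally_free _).1 hEp x
  obtain ⟨P, a, b, hab, hfree, ⟨e⟩⟩ := hV E ⟨Iso.refl _⟩
  refine ⟨V, hxV, ?_⟩
  intro _ K' hK'
  haveI : DCoh.HasLTensorCx P := Groth.Agent.Lib.Helper5.LTenAll.hasLTensorCx _
  have hPsp : DCoh.IsStrictlyPerfect P := ⟨⟨a, b, hab⟩, fun i => by
    obtain ⟨n, ⟨e⟩⟩ := hfree i
    exact Groth.Agent.Lib.Helper5.Shrink.isFinLocFree_of_iso_free _ n e⟩
  have hP : DCoh.IsKFlat P := Groth.Agent.Lib.Helper5.LTenDer.isKFlat_of_isStrictlyPerfect P hPsp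
  exact HasLinAdj.of_iso _ hP e K' hK' (hasLinAdj_of_free P a b hab hfree hP K' hK')

end Groth.Agent.Lib.Helper5.Lin
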