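import Mathlib
import Groth.Prelude.Def_DCoh4
import Groth.Agent.Lib.Helper5.LTen.Assoc1
import Groth.Agent.Lib.Helper5.RestrTen.RestrTenS

/-!
# Restriction to an open subscheme is compatible with the associator of the tensor product
of modules (helper5)
-/
set_option autoImplicit false
set_option linter.unusedSectionVars false
set_option linter.unusedVariables false
set_option linter.style.haveILetI false
universe u
open CategoryTheory CategoryTheory.Limits MonoidalCategory Opposite AlgebraicGeometry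

namespace Groth.Agent.Lib.Helper5.Lin.ResHex

open Groth.Agent.Lib.Helper5.TensorSheaf Groth.Agent.Lib.Helper5.TenAssoc

section Site

variable {C : Type u} [SmallCategory C] {J : GrothendieckTopology C} {O : Sheaf J CommRingCat.{u}}

lemma un_adjunct {Q : PM O} {G : ModSite.Mod O} (φ : Q ⟶ (fgt O).obj G) :
    un Q ≫ (fgt O).map (adjunct φ) = φ := by
  have h := (adj O).homEquiv_unit (f := adjunct φ)
  have h2 : (adj O).homEquiv Q G (adjunct φ) = φ := Equiv.apply_symm_apply _ _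
  rw [h2] at h
  exact h.symm

lemma adjunct_un_comp {Q : PM O} {G : ModSite.Mod O} (g : (shf O).obj Q ⟶ G) :
    adjunct (un Q ≫ (fgt O).map g) = g := by
  have h := (adj O).homEquiv_unit (f := g)
  have h2 : adjunct ((adj O).homEquiv Q G g) = g := Equiv.symm_apply_apply _ _
  rw [h] at h2
  exact h2

lemma shf_hom_ext {Q : PM O} {G : ModSite.Mod O} {g g' : (shf O).obj Q ⟶ G}
    (h : un Q ≫ (fgt O).map g = un Q ≫ (fgt O).map g') : g = g' := by
  rw [← adjunct_un_comp g, ← adjunct_un_comp g', h]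

/-- the universal bilinear map -/
noncomputable abbrev τ (A B : ModSite.Mod O) :
    (fgt O).obj A ⊗ (fgt O).obj B ⟶ (fgt O).obj (((T O).obj A).obj B) :=
  un ((fgt O).obj A ⊗ (fgt O).obj B)

lemma τ_map₁ {A A' : ModSite.Mod O} (f : A ⟶ A') (B : ModSite.Mod O) :
    τ A B ≫ (fgt O).map (((T O).map f).app B) = ((fgt O).map f ▷ (fgt O).obj B) ≫ τ A' B :=
  (un_naturality _).symm

lemma τ_map₂ (A : ModSite.Mod O) {B B' : ModSite.Mod O} (g : B ⟶ B') :
    τ A B ≫ (fgt O).map (((T O).obj A).map g) = ((fgt O).obj A ◁ (fgt O).map g) ≫ τ A B' :=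
  (un_naturality _).symm

/-- the universal trilinear map -/
noncomputable abbrev τ₃ (A B D : ModSite.Mod O) :
    ((fgt O).obj A ⊗ (fgt O).obj B) ⊗ (fgt O).obj D ⟶
      (fgt O).obj (((T O).obj (((T O).obj A).obj B)).obj D) :=
  (τ A B ▷ (fgt O).obj D) ≫ τ (((T O).obj A).obj B) D

lemma triple_hom_ext (A B D : ModSite.Mod O) {G : ModSite.Mod O}
    {g g' : ((T O).obj (((T O).obj A).obj B)).obj D ⟶ G}
    (h : τ₃ A B D ≫ (fgt O).map g = τ₃ A B D ≫ (fgt O).map g') : g = g' := by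
  rw [← cancel_epi (a₁ A B D)]
  apply shf_hom_ext
  have e : ∀ k : ((T O).obj (((T O).obj A).obj B)).obj D ⟶ G,
      un (((fgt O).obj A ⊗ (fgt O).obj B) ⊗ (fgt O).obj D) ≫ (fgt O).map (a₁ A B D ≫ k) =
        τ₃ A B D ≫ (fgt O).map k := by
    intro k
    rw [Functor.map_comp, ← Category.assoc]
    have := un_naturality (O := O) (τ A B ▷ (fgt O).obj D)
    rw [Category.assoc]
    exact congrArg (· ≫ (fgt O).map k) this.symm
  rw [e, e, h]

lemma τ₃_assoc (A B D : ModSite.Mod O) :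
    τ₃ A B D ≫ (fgt O).map (assocObj A B D).hom =
      (α_ ((fgt O).obj A) ((fgt O).obj B) ((fgt O).obj D)).hom ≫
        ((fgt O).obj A ◁ τ B D) ≫ τ A (((T O).obj B).obj D) := by
  have h := a₁_assocObj_hom A B D
  have h1 := congrArg (fun k => un (((fgt O).obj A ⊗ (fgt O).obj B) ⊗ (fgt O).obj D) ≫
    (fgt O).map k) h
  rw [Functor.map_comp, Functor.map_comp] at h1
  have e1 := un_naturality (O := O) (τ A B ▷ (fgt O).obj D)
  have e2 := un_naturality (O := O)
    (α_ ((fgt O).obj A) ((fgt O).obj B) ((fgt O).obj D)).hom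
  have e3 := un_naturality (O := O) ((fgt O).obj A ◁ τ B D)
  have h2 : τ₃ A B D ≫ (fgt O).map (assocObj A B D).hom =
      (un (((fgt O).obj A ⊗ (fgt O).obj B) ⊗ (fgt O).obj D) ≫ (fgt O).map (a₁ A B D)) ≫
        (fgt O).map (assocObj A B D).hom :=
    congrArg (· ≫ (fgt O).map (assocObj A B D).hom) e1
  rw [h2, Category.assoc, h1, ← Category.assoc]
  have h3 : un (((fgt O).obj A ⊗ (fgt O).obj B) ⊗ (fgt O).obj D) ≫
      (fgt O).map ((shf O).map (α_ ((fgt O).obj A) ((fgt O).obj B) ((fgt O).obj D)).hom) =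
      (α_ ((fgt O).obj A) ((fgt O).obj B) ((fgt O).obj D)).hom ≫
        un ((fgt O).obj A ⊗ ((fgt O).obj B ⊗ (fgt O).obj D)) := e2.symm
  rw [h3, Category.assoc]
  congr 1
  exact e3.symm

end Site

section Sch

open Groth.Agent.Lib.Helper5.RestrTen Groth.Agent.Lib.Helper5.Misc.StalkTensor
  Groth.Agent.Lib.Helper5.StalkAdj

variable {X U : Scheme.{u}} (j : U ⟶ X) [IsOpenImmersion j]

lemma resPTensor_assoc (A B D : PMod X.presheaf) :
    ((resPTensor j A B).hom ▷ (resP j).obj D) ≫ (resPTensor j (A ⊗ B) D).hom ≫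
        (resP j).map (α_ A B D).hom =
      (α_ ((resP j).obj A) ((resP j).obj B) ((resP j).obj D)).hom ≫
        ((resP j).obj A ◁ (resPTensor j B D).hom) ≫ (resPTensor j A (B ⊗ D)).hom := by
  apply PresheafOfModules.hom_ext
  intro V
  apply ModuleCat.MonoidalCategory.tensor_ext₃'
  intro m₁ m₂ m₃
  rfl

/-- the restriction functor -/
noncomputable abbrev R : X.Modules ⥤ U.Modules := Scheme.Modules.restrictFunctor j

/-- the universal bilinear map, in scheme language -/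
noncomputable def τS (Y : Scheme.{u}) (M N : Y.Modules) :
    (fgtS Y).obj M ⊗ (fgtS Y).obj N ⟶ (fgtS Y).obj ((DCoh.tensorBi.obj M).obj N) :=
  τ (O := Y.sheaf) M N

/-- the associator, in scheme language -/
noncomputable def assocS (Y : Scheme.{u}) (M N P : Y.Modules) :
    (DCoh.tensorBi.obj ((DCoh.tensorBi.obj M).obj N)).obj P ≅
      (DCoh.tensorBi.obj M).obj ((DCoh.tensorBi.obj N).obj P) :=
  assocObj (O := Y.sheaf) M N P

lemma τS_map₁ {Y : Scheme.{u}} {M M' : Y.Modules} (f : M ⟶ M') (N : Y.Modules) :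
    τS Y M N ≫ (fgtS Y).map ((DCoh.tensorBi.map f).app N) =
      ((fgtS Y).map f ▷ (fgtS Y).obj N) ≫ τS Y M' N :=
  τ_map₁ (O := Y.sheaf) f N

lemma τS_map₂ {Y : Scheme.{u}} (M : Y.Modules) {N N' : Y.Modules} (g : N ⟶ N') :
    τS Y M N ≫ (fgtS Y).map ((DCoh.tensorBi.obj M).map g) =
      ((fgtS Y).obj M ◁ (fgtS Y).map g) ≫ τS Y M N' :=
  τ_map₂ (O := Y.sheaf) M g

lemma τS₃_assoc (Y : Scheme.{u}) (M N P : Y.Modules) :
    (τS Y M N ▷ (fgtS Y).obj P) ≫ τS Y ((DCoh.tensorBi.obj M).obj N) P ≫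
        (fgtS Y).map (assocS Y M N P).hom =
      (α_ ((fgtS Y).obj M) ((fgtS Y).obj N) ((fgtS Y).obj P)).hom ≫
        ((fgtS Y).obj M ◁ τS Y N P) ≫ τS Y M ((DCoh.tensorBi.obj N).obj P) :=
  (Category.assoc _ _ _).symm.trans (τ₃_assoc (O := Y.sheaf) M N P)

lemma tripleS_hom_ext {Y : Scheme.{u}} (M N P : Y.Modules) {G : Y.Modules}
    {g g' : (DCoh.tensorBi.obj ((DCoh.tensorBi.obj M).obj N)).obj P ⟶ G}
    (h : (τS Y M N ▷ (fgtS Y).obj P) ≫ τS Y ((DCoh.tensorBi.obj M).obj N) P ≫ (fgtS Y).map g =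
      (τS Y M N ▷ (fgtS Y).obj P) ≫ τS Y ((DCoh.tensorBi.obj M).obj N) P ≫ (fgtS Y).map g') :
    g = g' :=
  triple_hom_ext (O := Y.sheaf) M N P
    (((Category.assoc _ _ _).trans h).trans (Category.assoc _ _ _).symm)

/-- the inverse comparison map `M|_U ⊗ N|_U ⟶ (M ⊗ N)|_U` -/
noncomputable def ν (M N : X.Modules) :
    (DCoh.tensorBi.obj ((R j).obj M)).obj ((R j).obj N) ⟶ (R j).obj ((DCoh.tensorBi.obj M).obj N) :=
  (restrictTensorIso j M N).inv

/-- the presheaf-level comparison -/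
noncomputable def κ (M N : X.Modules) :
    (resP j).obj ((fgtS X).obj M) ⊗ (resP j).obj ((fgtS X).obj N) ⟶
      (resP j).obj ((fgtS X).obj ((DCoh.tensorBi.obj M).obj N)) :=
  (resPTensor j ((fgtS X).obj M) ((fgtS X).obj N)).hom ≫ (resP j).map (τS X M N)

lemma τS_ν (M N : X.Modules) :
    τS U ((R j).obj M) ((R j).obj N) ≫ (fgtS U).map (ν j M N) = κ j M N := by
  have h1 : ν j M N = (shf U.sheaf).map (resPTensor j ((fgtS X).obj M) ((fgtS X).obj N)).hom ≫
      compMap j ((fgtS X).obj M ⊗ (fgtS X).obj N) := rfl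
  have h2 := un_naturality (O := U.sheaf) (resPTensor j ((fgtS X).obj M) ((fgtS X).obj N)).hom
  have h3 := un_adjunct (O := U.sheaf) (resUnit j ((fgtS X).obj M ⊗ (fgtS X).obj N))
  have h4 : (fgt U.sheaf).map (ν j M N) =
      (fgt U.sheaf).map ((shf U.sheaf).map
        (resPTensor j ((fgtS X).obj M) ((fgtS X).obj N)).hom) ≫
      (fgt U.sheaf).map (compMap j ((fgtS X).obj M ⊗ (fgtS X).obj N)) :=
    (congrArg (fun k => (fgt U.sheaf).map k) h1).trans (Functor.map_comp _ _ _)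
  refine (congrArg (τ (O := U.sheaf) ((R j).obj M) ((R j).obj N) ≫ ·) h4).trans ?_
  refine (Category.assoc _ _ _).symm.trans ?_
  refine (congrArg (· ≫ (fgt U.sheaf).map (compMap j ((fgtS X).obj M ⊗ (fgtS X).obj N)))
    h2.symm).trans ?_
  refine (Category.assoc _ _ _).trans ?_
  exact congrArg ((resPTensor j ((fgtS X).obj M) ((fgtS X).obj N)).hom ≫ ·) h3

lemma κ_whiskerRight (M N P : X.Modules) :
    (κ j M N ▷ (resP j).obj ((fgtS X).obj P)) ≫ κ j ((DCoh.tensorBi.obj M).obj N) P =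
      ((resPTensor j ((fgtS X).obj M) ((fgtS X).obj N)).hom ▷ (resP j).obj ((fgtS X).obj P)) ≫
        (resPTensor j ((fgtS X).obj M ⊗ (fgtS X).obj N) ((fgtS X).obj P)).hom ≫
        (resP j).map ((τS X M N ▷ (fgtS X).obj P) ≫ τS X ((DCoh.tensorBi.obj M).obj N) P) := by
  have h := resPTensor_naturality_left j (τS X M N) ((fgtS X).obj P)
  unfold κ
  rw [comp_whiskerRight, Category.assoc, reassoc_of% h, Functor.map_comp]

lemma κ_whiskerLeft (M N P : X.Modules) :
    ((resP j).obj ((fgtS X).obj M) ◁ κ j N P) ≫ κ j M ((DCoh.tensorBi.obj N).obj P) =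
      ((resP j).obj ((fgtS X).obj M) ◁ (resPTensor j ((fgtS X).obj N) ((fgtS X).obj P)).hom) ≫
        (resPTensor j ((fgtS X).obj M) ((fgtS X).obj N ⊗ (fgtS X).obj P)).hom ≫
        (resP j).map (((fgtS X).obj M ◁ τS X N P) ≫ τS X M ((DCoh.tensorBi.obj N).obj P)) := by
  have h := resPTensor_naturality_right j ((fgtS X).obj M) (τS X N P)
  unfold κ
  rw [MonoidalCategory.whiskerLeft_comp, Category.assoc, reassoc_of% h, Functor.map_comp]

lemma hexL (M N P : X.Modules) :
    (τS U ((R j).obj M) ((R j).obj N) ▷ (fgtS U).obj ((R j).obj P)) ≫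
        τS U ((DCoh.tensorBi.obj ((R j).obj M)).obj ((R j).obj N)) ((R j).obj P) ≫
        (fgtS U).map ((DCoh.tensorBi.map (ν j M N)).app ((R j).obj P) ≫
          ν j ((DCoh.tensorBi.obj M).obj N) P ≫ (R j).map (assocS X M N P).hom) =
      (κ j M N ▷ (resP j).obj ((fgtS X).obj P)) ≫ κ j ((DCoh.tensorBi.obj M).obj N) P ≫
        (resP j).map ((fgtS X).map (assocS X M N P).hom) := by
  rw [Functor.map_comp, Functor.map_comp, reassoc_of% (τS_map₁ (ν j M N) ((R j).obj P)),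
    ← comp_whiskerRight_assoc, τS_ν, reassoc_of% (τS_ν j ((DCoh.tensorBi.obj M).obj N) P)]
  rfl

lemma hexR (M N P : X.Modules) :
    (τS U ((R j).obj M) ((R j).obj N) ▷ (fgtS U).obj ((R j).obj P)) ≫
        τS U ((DCoh.tensorBi.obj ((R j).obj M)).obj ((R j).obj N)) ((R j).obj P) ≫
        (fgtS U).map ((assocS U ((R j).obj M) ((R j).obj N) ((R j).obj P)).hom ≫
          (DCoh.tensorBi.obj ((R j).obj M)).map (ν j N P) ≫
          ν j M ((DCoh.tensorBi.obj N).obj P)) =
      (α_ ((resP j).obj ((fgtS X).obj M)) ((resP j).obj ((fgtS X).obj N))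
          ((resP j).obj ((fgtS X).obj P))).hom ≫
        ((resP j).obj ((fgtS X).obj M) ◁ κ j N P) ≫ κ j M ((DCoh.tensorBi.obj N).obj P) := by
  rw [Functor.map_comp, Functor.map_comp,
    reassoc_of% (τS₃_assoc U ((R j).obj M) ((R j).obj N) ((R j).obj P)),
    reassoc_of% (τS_map₂ ((R j).obj M) (ν j N P)),
    ← MonoidalCategory.whiskerLeft_comp_assoc, τS_ν, τS_ν]
  rfl

/-- **restriction is compatible with the associators** (inverse form) -/
theorem hex_inv (M N P : X.Modules) :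
    (DCoh.tensorBi.map (ν j M N)).app ((R j).obj P) ≫
        ν j ((DCoh.tensorBi.obj M).obj N) P ≫ (R j).map (assocS X M N P).hom =
      (assocS U ((R j).obj M) ((R j).obj N) ((R j).obj P)).hom ≫
        (DCoh.tensorBi.obj ((R j).obj M)).map (ν j N P) ≫
        ν j M ((DCoh.tensorBi.obj N).obj P) := by
  apply tripleS_hom_ext
  refine (hexL j M N P).trans (Eq.trans ?_ (hexR j M N P).symm)
  have h1 := τS₃_assoc X M N P
  have h2 := resPTensor_assoc j ((fgtS X).obj M) ((fgtS X).obj N) ((fgtS X).obj P)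
  rw [← Category.assoc, κ_whiskerRight, κ_whiskerLeft, Category.assoc, Category.assoc,
    ← Functor.map_comp, Category.assoc, h1, Functor.map_comp, reassoc_of% h2]

lemma hex_flip {D : Type*} [Category D] {A₁ A₂ A₃ B₁ B₂ B₃ : D} (y : A₁ ≅ A₂) (x : A₂ ≅ A₃)
    (a' : A₃ ⟶ B₃) (g : A₁ ⟶ B₁) (q : B₁ ≅ B₂) (p : B₂ ≅ B₃)
    (h : x.inv ≫ y.inv ≫ g = a' ≫ p.inv ≫ q.inv) :
    y.hom ≫ x.hom ≫ a' = g ≫ q.hom ≫ p.hom := by
  have h1 : g = y.hom ≫ x.hom ≫ a' ≫ p.inv ≫ q.inv := by
    rw [← h]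
    simp
  rw [h1]
  simp

/-- **restriction is compatible with the associators** -/
theorem hex (M N P : X.Modules) :
    (restrictTensorIso j ((DCoh.tensorBi.obj M).obj N) P).hom ≫
        (DCoh.tensorBi.map (restrictTensorIso j M N).hom).app ((R j).obj P) ≫
        (assocS U ((R j).obj M) ((R j).obj N) ((R j).obj P)).hom =
      (R j).map (assocS X M N P).hom ≫
        (restrictTensorIso j M ((DCoh.tensorBi.obj N).obj P)).hom ≫
        (DCoh.tensorBi.obj ((R j).obj M)).map (restrictTensorIso j N P).hom :=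
  hex_flip (restrictTensorIso j ((DCoh.tensorBi.obj M).obj N) P)
    ((DCoh.tensorBi.mapIso (restrictTensorIso j M N)).app ((R j).obj P))
    (assocS U ((R j).obj M) ((R j).obj N) ((R j).obj P)).hom
    ((R j).map (assocS X M N P).hom)
    (restrictTensorIso j M ((DCoh.tensorBi.obj N).obj P))
    ((DCoh.tensorBi.obj ((R j).obj M)).mapIso (restrictTensorIso j N P))
    (hex_inv j M N P)

end Sch

end Groth.Agent.Lib.Helper5.Lin.ResHex
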