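import Mathlib
import Groth.Agent.Lib.Helper5.Lin.CounitLin
import Groth.Agent.Lib.Helper5.StalkTen.TotFun

/-!
# A monoidal-type functor is compatible with the associators of total complexes (helper5)
-/
set_option autoImplicit false
set_option linter.unusedSectionVars false
set_option linter.unusedVariables false
universe u
open CategoryTheory CategoryTheory.Limits HomologicalComplex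

namespace Groth.Agent.Lib.Helper5.Dual

open Groth.Agent.Lib.Helper5.TotFun

variable {A : Type*} [Category A] [Preadditive A] [HasZeroObject A]
  (TA : A ⥤ A ⥤ A) [TA.Additive] [∀ X : A, (TA.obj X).Additive]
  [∀ X : A, (TA.flip.obj X).Additive]
  [∀ (K₁ K₂ : CochainComplex A ℤ), CochainComplex.HasMapBifunctor K₁ K₂ TA]
  [∀ (n : ℤ) (X : A), PreservesColimitsOfShape (Discrete ((ComplexShape.π (ComplexShape.up ℤ)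
    (ComplexShape.up ℤ) (ComplexShape.up ℤ)) ⁻¹' {n})) (TA.flip.obj X)]
  [∀ K₁ K₂ K₃ : CochainComplex A ℤ, HasGoodTrifunctor₁₂Obj TA TA K₁ K₂ K₃
    (ComplexShape.up ℤ) (ComplexShape.up ℤ)]
  [∀ K₁ K₂ K₃ : CochainComplex A ℤ, HasGoodTrifunctor₂₃Obj TA TA K₁ K₂ K₃
    (ComplexShape.up ℤ) (ComplexShape.up ℤ) (ComplexShape.up ℤ)]
  (assocA : bifunctorComp₁₂ TA TA ≅ bifunctorComp₂₃ TA TA)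
  {B : Type*} [Category B] [Preadditive B] [HasZeroObject B]
  (TB : B ⥤ B ⥤ B) [TB.Additive] [∀ X : B, (TB.obj X).Additive]
  [∀ X : B, (TB.flip.obj X).Additive]
  [∀ (K₁ K₂ : CochainComplex B ℤ), CochainComplex.HasMapBifunctor K₁ K₂ TB]
  [∀ (n : ℤ) (X : B), PreservesColimitsOfShape (Discrete ((ComplexShape.π (ComplexShape.up ℤ)
    (ComplexShape.up ℤ) (ComplexShape.up ℤ)) ⁻¹' {n})) (TB.flip.obj X)]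
  [∀ K₁ K₂ K₃ : CochainComplex B ℤ, HasGoodTrifunctor₁₂Obj TB TB K₁ K₂ K₃
    (ComplexShape.up ℤ) (ComplexShape.up ℤ)]
  [∀ K₁ K₂ K₃ : CochainComplex B ℤ, HasGoodTrifunctor₂₃Obj TB TB K₁ K₂ K₃
    (ComplexShape.up ℤ) (ComplexShape.up ℤ) (ComplexShape.up ℤ)]
  (assocB : bifunctorComp₁₂ TB TB ≅ bifunctorComp₂₃ TB TB)
  (G : A ⥤ B) [G.Additive]
  [∀ n : ℤ, PreservesColimitsOfShape (Discrete ((ComplexShape.π (ComplexShape.up ℤ)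
    (ComplexShape.up ℤ) (ComplexShape.up ℤ)) ⁻¹' {n})) G]
  (φ : ∀ (P N : A), G.obj ((TA.obj P).obj N) ≅ (TB.obj (G.obj P)).obj (G.obj N))
  (hφ₁ : ∀ {P P' : A} (f : P ⟶ P') (N : A),
    G.map ((TA.map f).app N) ≫ (φ P' N).hom = (φ P N).hom ≫ (TB.map (G.map f)).app (G.obj N))
  (hφ₂ : ∀ (P : A) {N N' : A} (g : N ⟶ N'),
    G.map ((TA.obj P).map g) ≫ (φ P N').hom = (φ P N).hom ≫ (TB.obj (G.obj P)).map (G.map g))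
  (hhex : ∀ P N D : A,
    (φ ((TA.obj P).obj N) D).hom ≫ (TB.map (φ P N).hom).app (G.obj D) ≫
        αh TB assocB (G.obj P) (G.obj N) (G.obj D) =
      G.map (αh TA assocA P N D) ≫ (φ P ((TA.obj N).obj D)).hom ≫
        (TB.obj (G.obj P)).map (φ N D).hom)

/-- `G` applied degreewise -/
noncomputable abbrev Gc : CochainComplex A ℤ ⥤ CochainComplex B ℤ :=
  G.mapHomologicalComplex (ComplexShape.up ℤ)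

include hφ₁ hφ₂ in
/-- the comparison isomorphism of total complexes -/
noncomputable abbrev tI (K₁ K₂ : CochainComplex A ℤ) :
    (Gc G).obj (tot TA K₁ K₂) ≅ tot TB ((Gc G).obj K₁) ((Gc G).obj K₂) :=
  totIso TA TB G G G φ hφ₁ hφ₂ K₁ K₂

lemma ι_tI (K₁ K₂ : CochainComplex A ℤ) (p q n : ℤ) (h : p + q = n) :
    G.map (ιt TA K₁ K₂ p q n h) ≫ (tI TA TB G φ hφ₁ hφ₂ K₁ K₂).hom.f n =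
      (φ (K₁.X p) (K₂.X q)).hom ≫ ιt TB ((Gc G).obj K₁) ((Gc G).obj K₂) p q n h :=
  ι_eIso TA TB G G G φ K₁ K₂ p q n h

omit [Preadditive B] [HasZeroObject B] in
lemma chaseL {X₀ X₁ X₂ X₃ X₄ X₅ Y₁ Y₂ Y₃ Y₄ Y₅ Y₆ : B}
    (g₁ : X₀ ⟶ X₁) (g₂ : X₁ ⟶ X₂) (e : X₂ ⟶ X₃) (m : X₃ ⟶ X₄) (a : X₄ ⟶ X₅)
    (φ₁ : X₁ ⟶ Y₁) (ι₁ : Y₁ ⟶ X₃) (φ₀ : X₀ ⟶ Y₂) (tg : Y₂ ⟶ Y₁) (te : Y₁ ⟶ Y₃) (ι₂ : Y₃ ⟶ X₄)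
    (tφ : Y₂ ⟶ Y₄) (tι₁₂ : Y₄ ⟶ Y₃) (α : Y₄ ⟶ Y₅) (tι : Y₅ ⟶ Y₆) (ιf : Y₆ ⟶ X₅)
    (L1 : g₂ ≫ e = φ₁ ≫ ι₁) (L2 : g₁ ≫ φ₁ = φ₀ ≫ tg) (L3 : ι₁ ≫ m = te ≫ ι₂)
    (L6 : tg ≫ te = tφ ≫ tι₁₂) (L5 : tι₁₂ ≫ ι₂ ≫ a = α ≫ tι ≫ ιf) :
    g₁ ≫ g₂ ≫ e ≫ m ≫ a = φ₀ ≫ tφ ≫ α ≫ tι ≫ ιf := by
  rw [reassoc_of% L1, reassoc_of% L2, reassoc_of% L3, reassoc_of% L6, L5]

omit [Preadditive B] [HasZeroObject B] in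
lemma chaseR {X₀ X₁ X₂ X₃ X₄ X₅ Y₁ Y₂ Y₃ Y₄ Y₅ Y₆ : B}
    (g₁ : X₀ ⟶ X₁) (g₂ : X₁ ⟶ X₂) (ga : X₂ ⟶ X₃) (e' : X₃ ⟶ X₄) (m' : X₄ ⟶ X₅)
    (gα : X₀ ⟶ Y₁) (gt : Y₁ ⟶ Y₂) (gι : Y₂ ⟶ X₃) (φ₃ : Y₂ ⟶ Y₃) (ι₃ : Y₃ ⟶ X₄)
    (φ₂ : Y₁ ⟶ Y₄) (tg' : Y₄ ⟶ Y₃) (te' : Y₃ ⟶ Y₆) (ιf : Y₆ ⟶ X₅) (tφ' : Y₄ ⟶ Y₅)
    (tι : Y₅ ⟶ Y₆)
    (R1 : g₁ ≫ g₂ ≫ ga = gα ≫ gt ≫ gι) (R2 : gι ≫ e' = φ₃ ≫ ι₃) (R3 : gt ≫ φ₃ = φ₂ ≫ tg')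
    (R4 : ι₃ ≫ m' = te' ≫ ιf) (R6 : tg' ≫ te' = tφ' ≫ tι) :
    g₁ ≫ g₂ ≫ ga ≫ e' ≫ m' = gα ≫ φ₂ ≫ tφ' ≫ tι ≫ ιf := by
  rw [reassoc_of% R1, reassoc_of% R2, reassoc_of% R3, R4, reassoc_of% R6]

omit [Preadditive B] [HasZeroObject B] in
lemma chaseF {X₀ Y₁ Y₂ Y₄ Y₄' Y₅ Y₆ X₅ : B} (φ₀ : X₀ ⟶ Y₂) (tφ : Y₂ ⟶ Y₄) (α : Y₄ ⟶ Y₅)
    (gα : X₀ ⟶ Y₁) (φ₂ : Y₁ ⟶ Y₄') (tφ' : Y₄' ⟶ Y₅) (tι : Y₅ ⟶ Y₆) (ιf : Y₆ ⟶ X₅)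
    (hh : φ₀ ≫ tφ ≫ α = gα ≫ φ₂ ≫ tφ') :
    φ₀ ≫ tφ ≫ α ≫ tι ≫ ιf = gα ≫ φ₂ ≫ tφ' ≫ tι ≫ ιf := by
  rw [reassoc_of% hh]

omit [Preadditive B] [HasZeroObject B] in
lemma map_sq' {D : Type*} [Category D] (F : B ⥤ D) {P Q P' Q' : B}
    {a : P ⟶ Q} {b : Q ⟶ Q'} {a' : P ⟶ P'} {b' : P' ⟶ Q'} (h : a ≫ b = a' ≫ b') :
    F.map a ≫ F.map b = F.map a' ≫ F.map b' := by
  rw [← F.map_comp, ← F.map_comp, h]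

include hhex in
/-- **compatibility of `totIso` with the associators of total complexes** -/
theorem tI_hex (K₁ K₂ K₃ : CochainComplex A ℤ) :
    (tI TA TB G φ hφ₁ hφ₂ (tot TA K₁ K₂) K₃).hom ≫
        totMap TB (tI TA TB G φ hφ₁ hφ₂ K₁ K₂).hom ((Gc G).obj K₃) ≫
        (totAssoc TB assocB ((Gc G).obj K₁) ((Gc G).obj K₂) ((Gc G).obj K₃)).hom =
      (Gc G).map (totAssoc TA assocA K₁ K₂ K₃).hom ≫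
        (tI TA TB G φ hφ₁ hφ₂ K₁ (tot TA K₂ K₃)).hom ≫
        mapBifunctorMap (𝟙 ((Gc G).obj K₁)) (tI TA TB G φ hφ₁ hφ₂ K₂ K₃).hom TB
          (ComplexShape.up ℤ) := by
  ext n : 1
  apply hom_ext_G TA G (tot TA K₁ K₂) K₃
  intro s i₃ ht
  apply hom_ext_G TA (TA.flip.obj (K₃.X i₃) ⋙ G) K₁ K₂
  intro i₁ i₂ hs
  obtain ⟨u, hu⟩ : ∃ u, i₂ + i₃ = u := ⟨_, rfl⟩
  have hat : i₁ + u = n := by omega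
  -- the left hand side
  have L1 := ι_tI TA TB G φ hφ₁ hφ₂ (tot TA K₁ K₂) K₃ s i₃ n ht
  have L2 := hφ₁ (ιt TA K₁ K₂ i₁ i₂ s hs) (K₃.X i₃)
  have L3 := ιt_totMap TB (tI TA TB G φ hφ₁ hφ₂ K₁ K₂).hom ((Gc G).obj K₃) s i₃ n ht
  have L4 := ι_tI TA TB G φ hφ₁ hφ₂ K₁ K₂ i₁ i₂ s hs
  have L5 := ι_totAssoc_hom TB assocB ((Gc G).obj K₁) ((Gc G).obj K₂) ((Gc G).obj K₃)
    i₁ i₂ i₃ s u n hs hu ht hat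
  have L6 := map_sq' (TB.flip.obj (G.obj (K₃.X i₃))) L4
  have hL := chaseL _ _ _ _ _ _ _ _ _ _ _ _ _ _ _ _ L1 L2 L3 L6 L5
  -- the right hand side
  have R1 : G.map ((TA.map (ιt TA K₁ K₂ i₁ i₂ s hs)).app (K₃.X i₃)) ≫
      G.map (ιt TA (tot TA K₁ K₂) K₃ s i₃ n ht) ≫
      G.map ((totAssoc TA assocA K₁ K₂ K₃).hom.f n) =
      G.map (αh TA assocA (K₁.X i₁) (K₂.X i₂) (K₃.X i₃)) ≫
        G.map ((TA.obj (K₁.X i₁)).map (ιt TA K₂ K₃ i₂ i₃ u hu)) ≫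
        G.map (ιt TA K₁ (tot TA K₂ K₃) i₁ u n hat) := by
    rw [← G.map_comp, ← G.map_comp, ← G.map_comp, ← G.map_comp,
      ι_totAssoc_hom TA assocA K₁ K₂ K₃ i₁ i₂ i₃ s u n hs hu ht hat]
  have R2 := ι_tI TA TB G φ hφ₁ hφ₂ K₁ (tot TA K₂ K₃) i₁ u n hat
  have R3 := hφ₂ (K₁.X i₁) (ιt TA K₂ K₃ i₂ i₃ u hu)
  have R4 : ιt TB ((Gc G).obj K₁) ((Gc G).obj (tot TA K₂ K₃)) i₁ u n hat ≫
      (mapBifunctorMap (𝟙 ((Gc G).obj K₁)) (tI TA TB G φ hφ₁ hφ₂ K₂ K₃).hom TB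
        (ComplexShape.up ℤ)).f n =
      (TB.obj (((Gc G).obj K₁).X i₁)).map ((tI TA TB G φ hφ₁ hφ₂ K₂ K₃).hom.f u) ≫
        ιt TB ((Gc G).obj K₁) (tot TB ((Gc G).obj K₂) ((Gc G).obj K₃)) i₁ u n hat := by
    rw [ι_mapBifunctorMap]
    simp
  have R5 := ι_tI TA TB G φ hφ₁ hφ₂ K₂ K₃ i₂ i₃ u hu
  have R6 := map_sq' (TB.obj (G.obj (K₁.X i₁))) R5
  have hR := chaseR _ _ _ _ _ _ _ _ _ _ _ _ _ _ _ _ R1 R2 R3 R4 R6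
  have hh := hhex (K₁.X i₁) (K₂.X i₂) (K₃.X i₃)
  exact (hL.trans (chaseF _ _ _ _ _ _ _ _ hh)).trans hR.symm

end Groth.Agent.Lib.Helper5.Dual
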