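import Mathlib
import Groth.Prelude.Def_DCoh4
import Groth.Agent.Lib.Helper5.Lin.TotHex
import Groth.Agent.Lib.Helper5.Lin.ResHexMod
import Groth.Agent.Lib.Helper5.Lin.SiteLin
import Groth.Agent.Lib.Helper5.Lin.Assoc4

/-!
# Restriction to an open subscheme is compatible with the associator of the tensor product
of complexes (helper5)
-/
set_option autoImplicit false
set_option linter.unusedSectionVars false
set_option linter.unusedVariables false
set_option linter.style.haveILetI false
universe u
open CategoryTheory CategoryTheory.Limits AlgebraicGeometry HomologicalComplex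

namespace Groth.Agent.Lib.Helper5.Lin

open Groth.Agent.Lib.Helper5.Dual Groth.Agent.Lib.Helper5.RestrTen
  Groth.Agent.Lib.Helper5.TenAssoc

/-- the structure sheaf, typed as a sheaf on the site of opens -/
abbrev OX (X : Scheme.{u}) : Sheaf (Opens.grothendieckTopology X) CommRingCat.{u} := X.sheaf

variable {X U : Scheme.{u}} (j : U ⟶ X) [IsOpenImmersion j]

/-- the restriction functor, typed between categories of modules on ringed sites -/
noncomputable def resF : ModSite.Mod (OX X) ⥤ ModSite.Mod (OX U) :=
  Scheme.Modules.restrictFunctor j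

instance : (resF j).Additive := inferInstanceAs ((Scheme.Modules.restrictFunctor j).Additive)

instance (n : ℤ) : PreservesColimitsOfShape (Discrete ((ComplexShape.π (ComplexShape.up ℤ)
    (ComplexShape.up ℤ) (ComplexShape.up ℤ)) ⁻¹' {n})) (resF j) :=
  inferInstanceAs (PreservesColimitsOfShape _ (Scheme.Modules.restrictFunctor j))

/-- **restriction is compatible with the associators of total tensor complexes** -/
theorem restrictTotIso_hex (K₁ K₂ K₃ : CochainComplex X.Modules ℤ) :
    (restrictTotIso j ((DCoh.tensorCx.obj K₁).obj K₂) K₃).hom ≫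
        (DCoh.tensorCx.map (restrictTotIso j K₁ K₂).hom).app (resCx j K₃) ≫
        (assocCx U.sheaf (resCx j K₁) (resCx j K₂) (resCx j K₃)).hom =
      ((Scheme.Modules.restrictFunctor j).mapHomologicalComplex (ComplexShape.up ℤ)).map
          (assocCx X.sheaf K₁ K₂ K₃).hom ≫
        (restrictTotIso j K₁ ((DCoh.tensorCx.obj K₂).obj K₃)).hom ≫
        (DCoh.tensorCx.obj (resCx j K₁)).map (restrictTotIso j K₂ K₃).hom := by
  have h := tI_hex (A := ModSite.Mod (OX X)) (B := ModSite.Mod (OX U))
    (ModSite.tensorBi (OX X)) (assoc (OX X)) (ModSite.tensorBi (OX U)) (assoc (OX U))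
    (resF j)
    (fun P N => restrictTensorIso j P N)
    (fun f N => restrictTensorIso_naturality_left j f N)
    (fun P _ _ g => restrictTensorIso_naturality_right j P g)
    (fun P N D => ResHex.hex j P N D)
  exact h K₁ K₂ K₃

end Groth.Agent.Lib.Helper5.Lin
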