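import Mathlib
import Groth.Prelude.Def_DCoh4
import Groth.Agent.Lib.Helper5.Lin.ResHexCx
import Groth.Agent.Lib.Helper5.Lin.LamFun
import Groth.Agent.Lib.Helper5.RHomQC.ResTen
import Groth.Agent.Lib.Helper5.ProjF2.TotIsoNat2

/-!
# Restriction to an open subscheme of the functors `Λ`, `- ⊗^L K` and of their commutation
isomorphism (helper5)
-/
set_option autoImplicit false
set_option linter.unusedSectionVars false
set_option linter.unusedVariables false
set_option linter.style.haveILetI false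
universe u
open CategoryTheory CategoryTheory.Limits AlgebraicGeometry HomologicalComplex
attribute [local instance] HasDerivedCategory.standard

namespace Groth.Agent.Lib.Helper5.Lin

open Groth.Agent.Lib.Helper5.Dual Groth.Agent.Lib.Helper5.ShriekProj
  Groth.Agent.Lib.Helper5.RHomQC Groth.Agent.Lib.Helper5.RestrTen

variable {X : Scheme.{u}} (V : X.Opens)

lemma isKFlat_KV (K : CochainComplex X.Modules ℤ) (hK : DCoh.IsKFlat K) :
    DCoh.IsKFlat (KV V K) :=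
  Groth.Agent.Lib.Helper5.PerfTensor.isKFlat_restrict V.ι K hK

/-- naturality of `restrictTotIso` in the second variable -/
lemma restrictTotIso_naturality₂ (M₀ : CochainComplex X.Modules ℤ)
    {F F' : CochainComplex X.Modules ℤ} (b : F ⟶ F') :
    (DCoh.restrictCx V).map ((DCoh.tensorCx.obj M₀).map b) ≫
        (restrictTotIso V.ι M₀ F').hom =
      (restrictTotIso V.ι M₀ F).hom ≫
        (DCoh.tensorCx.obj ((DCoh.restrictCx V).obj M₀)).map ((DCoh.restrictCx V).map b) :=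
  Groth.Agent.Lib.Helper5.TotMap.totIso_naturality₂ DCoh.tensorBi DCoh.tensorBi
    (Scheme.Modules.restrictFunctor V.ι) (Scheme.Modules.restrictFunctor V.ι)
    (Scheme.Modules.restrictFunctor V.ι)
    (fun P N => restrictTensorIso V.ι P N)
    (fun f N => restrictTensorIso_naturality_left V.ι f N)
    (fun P _ _ g => restrictTensorIso_naturality_right V.ι P g)
    M₀ b

/-- restriction commutes with `M₀ ⊗ -`, as a natural isomorphism -/
noncomputable def resNatIso₂ (M₀ : CochainComplex X.Modules ℤ) :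
    (DCoh.tensorCx (X := X)).obj M₀ ⋙ DCoh.restrictCx V ≅
      DCoh.restrictCx V ⋙ (DCoh.tensorCx (X := (V : Scheme.{u}))).obj (KV V M₀) :=
  NatIso.ofComponents (fun F => restrictTotIso V.ι M₀ F)
    (fun b => restrictTotIso_naturality₂ V M₀ b)

section Sigma

variable (K : CochainComplex X.Modules ℤ) (hK : DCoh.IsKFlat K)
  [DCoh.HasLTensorCx K] [DCoh.HasLTensorCx (KV V K)]

/-- `σ : (- ⊗^L K)|_V ≅ (-)|_V ⊗^L K|_V` for `K` K-flat -/
noncomputable def sigmaIso :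
    DCoh.LTensorCx K ⋙ DCoh.restrictD V.ι ≅ DCoh.restrictD V.ι ⋙ DCoh.LTensorCx (KV V K) :=
  liftNI DerivedCategory.Q (Wq X) DerivedCategory.Q
    (sqComp DerivedCategory.Q DerivedCategory.Q DerivedCategory.Q (ltSq K hK) (facRs V))
    (sqComp DerivedCategory.Q DerivedCategory.Q DerivedCategory.Q (facRs V)
      (ltSq (KV V K) (isKFlat_KV V K hK)))
    (resNatIso V K)

/-- pointwise square of `- ⊗^L K` followed by restriction -/
noncomputable def sqLJ (N : CochainComplex X.Modules ℤ) :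
    (DCoh.restrictD V.ι).obj ((DCoh.LTensorCx K).obj (DerivedCategory.Q.obj N)) ≅
      DerivedCategory.Q.obj ((DCoh.restrictCx V).obj ((DCoh.tensorCx.obj N).obj K)) :=
  (DCoh.restrictD V.ι).mapIso ((ltSq K hK).app N) ≪≫ (facRs V).app ((DCoh.tensorCx.obj N).obj K)

/-- pointwise square of restriction followed by `- ⊗^L K|_V` -/
noncomputable def sqJL (N : CochainComplex X.Modules ℤ) :
    (DCoh.LTensorCx (KV V K)).obj ((DCoh.restrictD V.ι).obj (DerivedCategory.Q.obj N)) ≅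
      DerivedCategory.Q.obj ((DCoh.tensorCx.obj ((DCoh.restrictCx V).obj N)).obj (KV V K)) :=
  (DCoh.LTensorCx (KV V K)).mapIso ((facRs V).app N) ≪≫
    (ltSq (KV V K) (isKFlat_KV V K hK)).app ((DCoh.restrictCx V).obj N)

theorem isLift_sigmaIso :
    IsLift DerivedCategory.Q DerivedCategory.Q
      (F := DCoh.LTensorCx K ⋙ DCoh.restrictD V.ι)
      (G := DCoh.restrictD V.ι ⋙ DCoh.LTensorCx (KV V K))
      (F₀ := fun N => (DCoh.restrictCx V).obj ((DCoh.tensorCx.obj N).obj K))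
      (G₀ := fun N => (DCoh.tensorCx.obj ((DCoh.restrictCx V).obj N)).obj (KV V K))
      (sqLJ V K hK) (sqJL V K hK) (sigmaIso V K hK).hom
      (fun N => (restrictTotIso V.ι N K).hom) := by
  refine (isLift_liftNI (Wq X) _ _ (resNatIso V K)).congr ?_ ?_
  · intro N
    simp [sqComp_hom_app, sqLJ]
  · intro N
    simp [sqComp_hom_app, sqJL]

end Sigma

section LamRes

variable (M₀ : CochainComplex X.Modules ℤ) (hM₀ : DCoh.IsKFlat M₀)

/-- `λ : (Λ_{M₀} -)|_V ≅ Λ_{M₀|_V} ((-)|_V)` -/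
noncomputable def lamIso :
    Lam M₀ hM₀ ⋙ DCoh.restrictD V.ι ≅
      DCoh.restrictD V.ι ⋙ Lam (KV V M₀) (isKFlat_KV V M₀ hM₀) :=
  liftNI DerivedCategory.Q (Wq X) DerivedCategory.Q
    (sqComp DerivedCategory.Q DerivedCategory.Q DerivedCategory.Q (lamSq M₀ hM₀) (facRs V))
    (sqComp DerivedCategory.Q DerivedCategory.Q DerivedCategory.Q (facRs V)
      (lamSq (KV V M₀) (isKFlat_KV V M₀ hM₀)))
    (resNatIso₂ V M₀)

/-- pointwise square of `Λ` followed by restriction -/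
noncomputable def sqΛJ (N : CochainComplex X.Modules ℤ) :
    (DCoh.restrictD V.ι).obj ((Lam M₀ hM₀).obj (DerivedCategory.Q.obj N)) ≅
      DerivedCategory.Q.obj ((DCoh.restrictCx V).obj ((DCoh.tensorCx.obj M₀).obj N)) :=
  (DCoh.restrictD V.ι).mapIso ((lamSq M₀ hM₀).app N) ≪≫
    (facRs V).app ((DCoh.tensorCx.obj M₀).obj N)

/-- pointwise square of restriction followed by `Λ_{M₀|_V}` -/
noncomputable def sqJΛ (N : CochainComplex X.Modules ℤ) :
    (Lam (KV V M₀) (isKFlat_KV V M₀ hM₀)).obj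
        ((DCoh.restrictD V.ι).obj (DerivedCategory.Q.obj N)) ≅
      DerivedCategory.Q.obj ((DCoh.tensorCx.obj (KV V M₀)).obj ((DCoh.restrictCx V).obj N)) :=
  (Lam (KV V M₀) (isKFlat_KV V M₀ hM₀)).mapIso ((facRs V).app N) ≪≫
    (lamSq (KV V M₀) (isKFlat_KV V M₀ hM₀)).app ((DCoh.restrictCx V).obj N)

theorem isLift_lamIso :
    IsLift DerivedCategory.Q DerivedCategory.Q
      (F := Lam M₀ hM₀ ⋙ DCoh.restrictD V.ι)
      (G := DCoh.restrictD V.ι ⋙ Lam (KV V M₀) (isKFlat_KV V M₀ hM₀))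
      (F₀ := fun N => (DCoh.restrictCx V).obj ((DCoh.tensorCx.obj M₀).obj N))
      (G₀ := fun N => (DCoh.tensorCx.obj (KV V M₀)).obj ((DCoh.restrictCx V).obj N))
      (sqΛJ V M₀ hM₀) (sqJΛ V M₀ hM₀) (lamIso V M₀ hM₀).hom
      (fun N => (restrictTotIso V.ι M₀ N).hom) := by
  refine (isLift_liftNI (Wq X) _ _ (resNatIso₂ V M₀)).congr ?_ ?_
  · intro N
    simp [sqComp_hom_app, sqΛJ]
  · intro N
    simp [sqComp_hom_app, sqJΛ]

end LamRes

section Hex

variable (M₀ : CochainComplex X.Modules ℤ) (hM₀ : DCoh.IsKFlat M₀)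
  (K : CochainComplex X.Modules ℤ) (hK : DCoh.IsKFlat K)
  [DCoh.HasLTensorCx K] [DCoh.HasLTensorCx (KV V K)]

/-- pointwise square of `Λ`, `- ⊗^L K`, restriction -/
noncomputable def sqF (N : CochainComplex X.Modules ℤ) :
    (DCoh.restrictD V.ι).obj ((DCoh.LTensorCx K).obj ((Lam M₀ hM₀).obj (DerivedCategory.Q.obj N))) ≅
      DerivedCategory.Q.obj ((DCoh.restrictCx V).obj
        ((DCoh.tensorCx.obj ((DCoh.tensorCx.obj M₀).obj N)).obj K)) :=
  (DCoh.LTensorCx K ⋙ DCoh.restrictD V.ι).mapIso ((lamSq M₀ hM₀).app N) ≪≫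
    sqLJ V K hK ((DCoh.tensorCx.obj M₀).obj N)

/-- pointwise square of restriction, `- ⊗^L K|_V`, `Λ_{M₀|_V}` -/
noncomputable def sqG (N : CochainComplex X.Modules ℤ) :
    (Lam (KV V M₀) (isKFlat_KV V M₀ hM₀)).obj ((DCoh.LTensorCx (KV V K)).obj
        ((DCoh.restrictD V.ι).obj (DerivedCategory.Q.obj N))) ≅
      DerivedCategory.Q.obj ((DCoh.tensorCx.obj (KV V M₀)).obj
        ((DCoh.tensorCx.obj ((DCoh.restrictCx V).obj N)).obj (KV V K))) :=
  (DCoh.LTensorCx (KV V K) ⋙ Lam (KV V M₀) (isKFlat_KV V M₀ hM₀)).mapIso ((facRs V).app N) ≪≫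
    sqLtLam (KV V M₀) (isKFlat_KV V M₀ hM₀) (KV V K) (isKFlat_KV V K hK)
      ((DCoh.restrictCx V).obj N)

/-- the left hand side of the hexagon -/
noncomputable def hexL :
    Lam M₀ hM₀ ⋙ DCoh.LTensorCx K ⋙ DCoh.restrictD V.ι ⟶
      DCoh.restrictD V.ι ⋙ DCoh.LTensorCx (KV V K) ⋙ Lam (KV V M₀) (isKFlat_KV V M₀ hM₀) :=
  Functor.whiskerLeft (Lam M₀ hM₀) (sigmaIso V K hK).hom ≫
    (Functor.whiskerRight (lamIso V M₀ hM₀).hom (DCoh.LTensorCx (KV V K)) ≫
      Functor.whiskerLeft (DCoh.restrictD V.ι)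
        (commIso (KV V M₀) (isKFlat_KV V M₀ hM₀) (KV V K) (isKFlat_KV V K hK)).hom)

/-- the right hand side of the hexagon -/
noncomputable def hexR :
    Lam M₀ hM₀ ⋙ DCoh.LTensorCx K ⋙ DCoh.restrictD V.ι ⟶
      DCoh.restrictD V.ι ⋙ DCoh.LTensorCx (KV V K) ⋙ Lam (KV V M₀) (isKFlat_KV V M₀ hM₀) :=
  Functor.whiskerRight (commIso M₀ hM₀ K hK).hom (DCoh.restrictD V.ι) ≫
    (Functor.whiskerLeft (DCoh.LTensorCx K) (lamIso V M₀ hM₀).hom ≫
      Functor.whiskerRight (sigmaIso V K hK).hom (Lam (KV V M₀) (isKFlat_KV V M₀ hM₀)))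

theorem isLift_hexL :
    IsLift DerivedCategory.Q DerivedCategory.Q
      (F := Lam M₀ hM₀ ⋙ DCoh.LTensorCx K ⋙ DCoh.restrictD V.ι)
      (G := DCoh.restrictD V.ι ⋙ DCoh.LTensorCx (KV V K) ⋙
        Lam (KV V M₀) (isKFlat_KV V M₀ hM₀))
      (F₀ := fun N => (DCoh.restrictCx V).obj
        ((DCoh.tensorCx.obj ((DCoh.tensorCx.obj M₀).obj N)).obj K))
      (G₀ := fun N => (DCoh.tensorCx.obj (KV V M₀)).obj
        ((DCoh.tensorCx.obj ((DCoh.restrictCx V).obj N)).obj (KV V K)))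
      (sqF V M₀ hM₀ K hK) (sqG V M₀ hM₀ K hK) (hexL V M₀ hM₀ K hK)
      (fun N => (restrictTotIso V.ι ((DCoh.tensorCx.obj M₀).obj N) K).hom ≫
        ((DCoh.tensorCx.map (restrictTotIso V.ι M₀ N).hom).app (KV V K) ≫
          (cxComm (KV V M₀) (KV V K)).hom.app ((DCoh.restrictCx V).obj N))) := by
  have h1 := (isLift_sigmaIso V K hK).whiskerLeft (LB := DerivedCategory.Q) (Lam M₀ hM₀)
    (fun N => (lamSq M₀ hM₀).app N)
  have h2 := (isLift_lamIso V M₀ hM₀).whiskerRight (LE := DerivedCategory.Q)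
    (DCoh.LTensorCx (KV V K)) (ltSq (KV V K) (isKFlat_KV V K hK))
  have h3 := (isLift_commIso (KV V M₀) (isKFlat_KV V M₀ hM₀) (KV V K)
    (isKFlat_KV V K hK)).whiskerLeft (LB := DerivedCategory.Q) (DCoh.restrictD V.ι)
    (fun N => (facRs V).app N)
  refine h1.comp ((h2.congr ?_ ?_).comp h3)
  · intro N
    simp [sqΛJ, sqJL]
  · intro N
    simp [sqJΛ, sqLamLt]

theorem isLift_hexR :
    IsLift DerivedCategory.Q DerivedCategory.Q
      (F := Lam M₀ hM₀ ⋙ DCoh.LTensorCx K ⋙ DCoh.restrictD V.ι)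
      (G := DCoh.restrictD V.ι ⋙ DCoh.LTensorCx (KV V K) ⋙
        Lam (KV V M₀) (isKFlat_KV V M₀ hM₀))
      (F₀ := fun N => (DCoh.restrictCx V).obj
        ((DCoh.tensorCx.obj ((DCoh.tensorCx.obj M₀).obj N)).obj K))
      (G₀ := fun N => (DCoh.tensorCx.obj (KV V M₀)).obj
        ((DCoh.tensorCx.obj ((DCoh.restrictCx V).obj N)).obj (KV V K)))
      (sqF V M₀ hM₀ K hK) (sqG V M₀ hM₀ K hK) (hexR V M₀ hM₀ K hK)
      (fun N => (DCoh.restrictCx V).map ((cxComm M₀ K).hom.app N) ≫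
        ((restrictTotIso V.ι M₀ ((DCoh.tensorCx.obj N).obj K)).hom ≫
          (DCoh.tensorCx.obj (KV V M₀)).map (restrictTotIso V.ι N K).hom)) := by
  have h4 := (isLift_commIso M₀ hM₀ K hK).whiskerRight (LE := DerivedCategory.Q)
    (DCoh.restrictD V.ι) (facRs V)
  have h5 := (isLift_lamIso V M₀ hM₀).whiskerLeft (LB := DerivedCategory.Q) (DCoh.LTensorCx K)
    (fun N => (ltSq K hK).app N)
  have h6 := (isLift_sigmaIso V K hK).whiskerRight (LE := DerivedCategory.Q)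
    (Lam (KV V M₀) (isKFlat_KV V M₀ hM₀)) (lamSq (KV V M₀) (isKFlat_KV V M₀ hM₀))
  refine (h4.congr ?_ ?_).comp (h5.comp (h6.congr ?_ ?_))
  · intro N
    simp [sqF, sqLJ, sqLamLt]
  · intro N
    simp [sqLtLam, sqΛJ]
  · intro N
    simp [sqJΛ, sqLJ]
  · intro N
    simp [sqG, sqJL, sqLtLam]

/-- **the hexagon**: the commutation isomorphisms are compatible with restriction -/
theorem hexL_eq_hexR : hexL V M₀ hM₀ K hK = hexR V M₀ hM₀ K hK :=
  IsLift.ext (Wq X) (isLift_hexL V M₀ hM₀ K hK) (isLift_hexR V M₀ hM₀ K hK)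
    (fun N => restrictTotIso_hex V.ι M₀ N K)

theorem hex_app (N : DCoh.D X) :
    (sigmaIso V K hK).hom.app ((Lam M₀ hM₀).obj N) ≫
        (DCoh.LTensorCx (KV V K)).map ((lamIso V M₀ hM₀).hom.app N) ≫
        (commIso (KV V M₀) (isKFlat_KV V M₀ hM₀) (KV V K) (isKFlat_KV V K hK)).hom.app
          ((DCoh.restrictD V.ι).obj N) =
      (DCoh.restrictD V.ι).map ((commIso M₀ hM₀ K hK).hom.app N) ≫
        (lamIso V M₀ hM₀).hom.app ((DCoh.LTensorCx K).obj N) ≫
        (Lam (KV V M₀) (isKFlat_KV V M₀ hM₀)).map ((sigmaIso V K hK).hom.app N) :=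
  congr_app (hexL_eq_hexR V M₀ hM₀ K hK) N

end Hex

end Groth.Agent.Lib.Helper5.Lin
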