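import Mathlib
import Groth.Prelude.Def_DCoh4
import Groth.Agent.Lib.Helper5.Lin.ResSq
import Groth.Agent.Lib.Helper5.Lin.Free
import Groth.Agent.Lib.Helper5.Lin.Mate
import Groth.Agent.Lib.Helper5.RHomQC.Local
import Groth.Agent.Lib.Helper5.BvdB.RpushCoprod

/-!
# For `K` K-flat perfect, `M₀ ⊗ RHom(K, N) ⟶ RHom(K, M₀ ⊗ N)` is an isomorphism (helper5)
-/
set_option autoImplicit false
set_option linter.unusedSectionVars false
set_option linter.unusedVariables false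
set_option linter.style.haveILetI false
universe u
open CategoryTheory CategoryTheory.Limits AlgebraicGeometry HomologicalComplex
attribute [local instance] HasDerivedCategory.standard

namespace Groth.Agent.Lib.Helper5.Lin

open Groth.Agent.Lib.Helper5.Dual Groth.Agent.Lib.Helper5.ShriekProj
  Groth.Agent.Lib.Helper5.RHomQC Groth.Agent.Lib.Helper5.BvdB

attribute [local instance] preservesFiniteLimits_extZero

variable {X : Scheme.{u}}

section

variable (V : X.Opens) (M₀ : CochainComplex X.Modules ℤ) (hM₀ : DCoh.IsKFlat M₀)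
  (K : CochainComplex X.Modules ℤ) (hK : DCoh.IsKFlat K)
  [DCoh.HasLTensorCx K] [DCoh.HasRSheafHom K]
  [DCoh.HasLTensorCx (KV V K)] [DCoh.HasRSheafHom (KV V K)]

/-- the restriction to `V` of the mate is an isomorphism when `- ⊗^L K|_V` has a linear right
adjoint -/
theorem isIso_restrict_mateB
    (hlin : HasLinAdj (KV V K) (isKFlat_KV V K hK) (KV V M₀) (isKFlat_KV V M₀ hM₀))
    (N : DCoh.D X) :
    IsIso ((DCoh.restrictD V.ι).map
      (mateB (DCoh.RSheafHomAdj K) (Lam M₀ hM₀) (commIso M₀ hM₀ K hK) N)) := by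
  have e := mateB_restrict (DCoh.RSheafHomAdj K) (DCoh.RSheafHomAdj (KV V K))
    (DCoh.restrictD V.ι) (sigmaIso V K hK) (Lam M₀ hM₀)
    (Lam (KV V M₀) (isKFlat_KV V M₀ hM₀)) (lamIso V M₀ hM₀) (commIso M₀ hM₀ K hK)
    (commIso (KV V M₀) (isKFlat_KV V M₀ hM₀) (KV V K) (isKFlat_KV V K hK))
    (hex_app V M₀ hM₀ K hK) N
  haveI h1 : IsIso (mateρ (DCoh.RSheafHomAdj K) (DCoh.RSheafHomAdj (KV V K))
      (DCoh.restrictD V.ι) (sigmaIso V K hK) ((Lam M₀ hM₀).obj N)) :=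
    isIso_mateρ _ _ _ _ (shriekAdj V) (derProjIso V K) _
  haveI h2 : IsIso (mateρ (DCoh.RSheafHomAdj K) (DCoh.RSheafHomAdj (KV V K))
      (DCoh.restrictD V.ι) (sigmaIso V K hK) N) :=
    isIso_mateρ _ _ _ _ (shriekAdj V) (derProjIso V K) _
  haveI h3 : IsIso (mateB (DCoh.RSheafHomAdj (KV V K)) (Lam (KV V M₀) (isKFlat_KV V M₀ hM₀))
      (commIso (KV V M₀) (isKFlat_KV V M₀ hM₀) (KV V K) (isKFlat_KV V K hK))
      ((DCoh.restrictD V.ι).obj N)) :=
    hlin.isIso_mateB _ _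
  have hr : IsIso ((lamIso V M₀ hM₀).hom.app ((DCoh.RSheafHom K).obj N) ≫
      (Lam (KV V M₀) (isKFlat_KV V M₀ hM₀)).map
        (mateρ (DCoh.RSheafHomAdj K) (DCoh.RSheafHomAdj (KV V K)) (DCoh.restrictD V.ι)
          (sigmaIso V K hK) N) ≫
      mateB (DCoh.RSheafHomAdj (KV V K)) (Lam (KV V M₀) (isKFlat_KV V M₀ hM₀))
        (commIso (KV V M₀) (isKFlat_KV V M₀ hM₀) (KV V K) (isKFlat_KV V K hK))
        ((DCoh.restrictD V.ι).obj N)) := inferInstance
  rw [← e] at hr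
  haveI h4 : IsIso (mateρ (DCoh.RSheafHomAdj K) (DCoh.RSheafHomAdj (KV V K))
      (DCoh.restrictD V.ι) (sigmaIso V K hK) ((Lam M₀ hM₀).obj N) ≫
      (DCoh.RSheafHom (KV V K)).map ((lamIso V M₀ hM₀).hom.app N)) := inferInstance
  exact IsIso.of_isIso_comp_right _ (mateρ (DCoh.RSheafHomAdj K) (DCoh.RSheafHomAdj (KV V K))
      (DCoh.restrictD V.ι) (sigmaIso V K hK) ((Lam M₀ hM₀).obj N) ≫
      (DCoh.RSheafHom (KV V K)).map ((lamIso V M₀ hM₀).hom.app N))

end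

/-- **for `K` K-flat perfect, the canonical map `M₀ ⊗ RHom(K, N) ⟶ RHom(K, M₀ ⊗ N)` is an
isomorphism** -/
theorem isIso_mateB_perfect (K : CochainComplex X.Modules ℤ) (hK : DCoh.IsKFlat K)
    (hKp : DCoh.IsPerfect (DerivedCategory.Q.obj K)) [DCoh.HasLTensorCx K] [DCoh.HasRSheafHom K]
    (M₀ : CochainComplex X.Modules ℤ) (hM₀ : DCoh.IsKFlat M₀) (N : DCoh.D X) :
    IsIso (mateB (DCoh.RSheafHomAdj K) (Lam M₀ hM₀) (commIso M₀ hM₀ K hK) N) := by
  choose V hxV hV using exists_local_hasLinAdj K hK hKp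
  refine isIso_of_isIso_restrictD _ V ?_ (fun x => ?_)
  · exact eq_top_iff.2 (fun y _ => TopologicalSpace.Opens.mem_iSup.2 ⟨y, hxV y⟩)
  · haveI : DCoh.HasLTensorCx (KV (V x) K) := Groth.Agent.Lib.Helper5.LTenAll.hasLTensorCx _
    haveI : DCoh.HasRSheafHom (KV (V x) K) := hasRSheafHom_restrict (V x) K
    exact isIso_restrict_mateB (V x) M₀ hM₀ K hK
      (hV x (KV (V x) M₀) (isKFlat_KV (V x) M₀ hM₀)) N

end Groth.Agent.Lib.Helper5.Lin
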