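import Mathlib
import Groth.Prelude.Def_DCoh4
import Groth.Agent.Lib.Helper5.Lin.MateIso
import Groth.Agent.Lib.Helper5.FMId.UnitNat
import Groth.Agent.Lib.Helper5.RHomCoh.UnitTilde
import Groth.Agent.Lib.Helper5.Dual.LocalRHom
import Groth.Agent.Lib.Helper5.Perf.PerfTri
import Groth.Agent.Lib.Helper5.RHomQC.UnitTen

/-!
# The dual of a perfect complex (helper5)
-/
set_option autoImplicit false
set_option linter.unusedSectionVars false
set_option linter.unusedVariables false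
set_option linter.style.haveILetI false
universe u
open CategoryTheory CategoryTheory.Limits AlgebraicGeometry HomologicalComplex
attribute [local instance] HasDerivedCategory.standard

namespace Groth.Agent.Lib.Helper5.Lin

open Groth.Agent.Lib.Helper5.Dual Groth.Agent.Lib.Helper5.ShriekProj
  Groth.Agent.Lib.Helper5.RHomQC Groth.Agent.Lib.Helper5.PerfTri

variable {X : Scheme.{u}}

/-- **the dual of a perfect complex is perfect** -/
theorem isPerfect_dual (K : CochainComplex X.Modules ℤ)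
    (hKp : DCoh.IsPerfect (DerivedCategory.Q.obj K)) [DCoh.HasLTensorCx K] [DCoh.HasRSheafHom K] :
    DCoh.IsPerfect ((DCoh.RSheafHom K).obj (OO X 0)) := by
  apply isPerfect_of_LPD
  intro x
  obtain ⟨V, hxV, Pd, a, b, hv, hsp, hiso⟩ := exists_local_dual K hKp x
  haveI : DCoh.HasLTensorCx Pd := Groth.Agent.Lib.Helper5.LTenAll.hasLTensorCx _
  obtain ⟨ψ⟩ := hiso
  refine ⟨V, V.ι, inferInstance, ?_, Pd, hsp, ⟨?_⟩⟩
  · simpa using hxV
  · exact ψ.app (OO X 0) ≪≫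
      (DCoh.LTensorCx Pd).mapIso (Groth.Agent.Lib.Helper5.RHomCoh.restrictOOIso V.ι) ≪≫
      ltensorUnitIso Pd

/-- **`M ⊗^L K^∨ ≅ RHom(K, M)` for `K` K-flat perfect** -/
theorem nonempty_ltensor_dual_iso (K : CochainComplex X.Modules ℤ) (hK : DCoh.IsKFlat K)
    (hKp : DCoh.IsPerfect (DerivedCategory.Q.obj K)) [DCoh.HasLTensorCx K] [DCoh.HasRSheafHom K]
    (D : CochainComplex X.Modules ℤ) (hD : DCoh.IsKFlat D)
    (e : DerivedCategory.Q.obj D ≅ (DCoh.RSheafHom K).obj (OO X 0)) [DCoh.HasLTensorCx D]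
    (M : DCoh.D X) :
    Nonempty ((DCoh.LTensorCx D).obj M ≅ (DCoh.RSheafHom K).obj M) := by
  let M' : CochainComplex X.Modules ℤ := DerivedCategory.Q.objPreimage M
  obtain ⟨F₀, p₀, hF₀, _, hp₀, _⟩ :=
    Groth.Agent.Lib.Helper5.KFlatSiteQ.exists_isKFlat_resolution (O := X.sheaf) M'
  let M₀ : CochainComplex X.Modules ℤ := F₀
  let p : M₀ ⟶ M' := p₀
  have hM₀ : DCoh.IsKFlat M₀ := hF₀
  have hp : QuasiIso p := hp₀
  haveI : IsIso (DerivedCategory.Q.map p) := (DerivedCategory.isIso_Q_map_iff_quasiIso _ _).2 hp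
  let eM : DerivedCategory.Q.obj M₀ ≅ M :=
    asIso (DerivedCategory.Q.map p) ≪≫ DerivedCategory.Q.objObjPreimageIso M
  haveI := isIso_mateB_perfect K hK hKp M₀ hM₀ (OO X 0)
  let b : (Lam M₀ hM₀).obj ((DCoh.RSheafHom K).obj (OO X 0)) ≅
      (DCoh.RSheafHom K).obj ((Lam M₀ hM₀).obj (OO X 0)) :=
    asIso (mateB (DCoh.RSheafHomAdj K) (Lam M₀ hM₀) (commIso M₀ hM₀ K hK) (OO X 0))
  let eO : OO X 0 ≅ DerivedCategory.Q.obj (OCx X 0) :=
    (DerivedCategory.singleFunctorIsoCompQ X.Modules 0).app (Coh.structureModule X)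
  let eΛ : (Lam M₀ hM₀).obj (OO X 0) ≅ M :=
    (Lam M₀ hM₀).mapIso eO ≪≫ (lamSq M₀ hM₀).app (OCx X 0) ≪≫
      DerivedCategory.Q.mapIso ((Groth.Agent.Lib.Helper5.FMId.rUnitCx X).app M₀) ≪≫ eM
  exact ⟨(DCoh.LTensorCx D).mapIso eM.symm ≪≫ (ltSq D hD).app M₀ ≪≫
    ((lamSq M₀ hM₀).app D).symm ≪≫ (Lam M₀ hM₀).mapIso e ≪≫ b ≪≫
    (DCoh.RSheafHom K).mapIso eΛ⟩

end Groth.Agent.Lib.Helper5.Lin
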